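import Cfsg.Agent.H541.RatB0.RowsPJ_m3
import Cfsg.Agent.H829.BR.Cnt_m3
import Cfsg.Agent.H629.ExcTor
import Cfsg.Agent.OddHalf.D4.En2.Kill_mg_m3
import Cfsg.Agent.KFacts.RgdOver
import Cfsg.Agent.H76.OC.IndInv
import Cfsg.Agent.H898.OC.Hecke_mg_m3
import Cfsg.Agent.H993.OC.Row
import Cfsg.Agent.KFacts.RgdAut
import Cfsg.Agent.OddOrderCharacters.Clifford
import Cfsg.Agent.Characters.Linear
import Cfsg.Agent.Characters.DegreeBounds
import Cfsg.Agent.KFacts.RgdAutFacts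
import Cfsg.Agent.S1082
import Cfsg.Agent.FastGrp
import Cfsg.Agent.Prune
set_option linter.all false
prune_inst 0x7f00000000000000000000000000000000000000000000000000000000000000000000000000000000000000000000000000000000000000000000000000000000000000000000000000000000000000003fffffffffffffffffffffffffffbeffbdffffffff
open scoped Cfsg.Agent.FastGrp

-- part: H287/OC/D4Sign
section
/-!
# S4891, own characteristic: sign characters of the torus of a Chevalley group (helper287)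

* `eta` : the quadratic character of `Kˣ`, as the sign of the multiplication; `et` : the same on `K`;
* `sg_root` : the sign of the action of `t ∈ T` on the root group `X_a` is `et (ch a t)`;
* `tag_iff` : two of these characters agree on `T` iff the roots are congruent modulo `2P`.
-/

set_option autoImplicit false
set_option linter.unusedSectionVars false

open Cfsg Cfsg.Lie

namespace Cfsg.Agent.H287.OC

open CoxeterSystem Cfsg.Agent.ChevalleyStructure.CoxeterGeom Cfsg.Agent.Tits.Roots Cfsg.Agent.Tits.Core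
  Cfsg.Agent.Nodes.Reps Cfsg.Agent.Nodes.BNOf Cfsg.Agent.Nodes.StabComb Cfsg.Agent.Nodes.Bruhat
  Cfsg.Agent.Nodes.LeviDec Cfsg.Agent.Nodes.RGDChev Cfsg.Agent.ChevalleyStructure.CoxeterGeomTypes
  Cfsg.Agent.KFacts.RgdAut Cfsg.Agent.KFacts.RgdDiag Cfsg.Agent.KFacts.RgdChevCoord Cfsg.Agent.KFacts.RgdField
  Cfsg.Agent.H798.Oc.Sign Cfsg.Agent.H129.TorusChar Cfsg.Agent.H629.ExcTor Cfsg.Agent.BpExc.TorChev

universe u

section eta

variable (F : Type u) [Field F] [Finite F]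

/-- the sign of the multiplication by a unit -/
noncomputable def eta : Fˣ →* ℤˣ := sgn.comp (MulAction.toPermHom Fˣ F)

theorem exists_eta (h2 : (2 : F) ≠ 0) : ∃ ω : Fˣ, eta F ω = -1 := by
  classical
  obtain ⟨ω, hω⟩ := IsCyclic.exists_generator (α := Fˣ)
  have := Fintype.ofFinite F
  have hodd : Odd (Nat.card F) := by
    rw [Nat.card_eq_fintype_card]
    have h3 := FiniteField.odd_card_of_char_ne_two (F := F) (by
      intro h3
      apply h2
      have := CharP.cast_eq_zero F (ringChar F)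
      rw [h3] at this
      exact_mod_cast this)
    exact Nat.odd_iff.2 h3
  refine ⟨ω, sgn_cycle hodd (by rw [Nat.card_eq_fintype_card]; exact Fintype.one_lt_card) _ 0 ?_ ?_⟩
  · change ω • (0 : F) = 0
    rw [smul_zero]
  · intro x y hx hy
    obtain ⟨n, hn⟩ := (mem_powers_iff_mem_zpowers.2 (hω (Units.mk0 y hy * (Units.mk0 x hx)⁻¹)))
    refine ⟨n, ?_⟩
    rw [← map_pow]
    change (ω ^ n) • x = y
    have h4 : ω ^ n = Units.mk0 y hy * (Units.mk0 x hx)⁻¹ := hn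
    rw [h4, Units.smul_def, Units.val_mul, Units.val_inv_eq_inv_val, Units.val_mk0, Units.val_mk0, smul_eq_mul,
      inv_mul_cancel_right₀ hx]

open Classical in
/-- the quadratic character on `F` (with value `1` at `0`) -/
noncomputable def et (a : F) : ℤˣ := if h : a = 0 then 1 else eta F (Units.mk0 a h)

variable {F}

theorem et_unit (u : Fˣ) : et F (u : F) = eta F u := by
  unfold et
  rw [dif_neg u.ne_zero]
  congr 1
  exact Units.ext rfl

theorem et_mul {a b : F} (ha : a ≠ 0) (hb : b ≠ 0) : et F (a * b) = et F a * et F b := by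
  have h1 := et_unit (Units.mk0 a ha * Units.mk0 b hb)
  rw [map_mul, ← et_unit, ← et_unit] at h1
  exact h1

theorem et_one : et F (1 : F) = 1 := by
  have h1 := et_unit (1 : Fˣ)
  rwa [map_one, Units.val_one] at h1

theorem et_zpow {a : F} (ha : a ≠ 0) (m : ℤ) : et F (a ^ m) = et F a ^ m := by
  have h1 := et_unit ((Units.mk0 a ha) ^ m)
  rw [map_zpow, ← et_unit, Units.val_zpow_eq_zpow_val] at h1
  exact h1

theorem sq_eq_one' (u : ℤˣ) : u * u = 1 := Int.units_mul_self u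

theorem neg_one_zpow_iff {m : ℤ} : ((-1 : ℤˣ) ^ m = 1) ↔ Even m := by
  constructor
  · intro h
    by_contra hc
    rw [Int.not_even_iff_odd] at hc
    rw [hc.neg_one_zpow] at h
    exact absurd h (by decide)
  · intro h
    exact h.neg_one_zpow

theorem zpow_even (u : ℤˣ) {m : ℤ} (hm : Even m) : u ^ m = 1 := by
  obtain ⟨k, rfl⟩ := hm
  rw [zpow_add, sq_eq_one']

end eta

variable {D : ChevalleyDatum} {l : ℕ} {M : CoxeterMatrix (Fin l)} (hp : IsType D l M) {K : Type u} [Field K] [Finite K]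
  {W : Type*} [Group W] (cs : CoxeterSystem M W)

/-- **the sign on a root group** -/
theorem sg_root (p : ℕ) [Fact p.Prime] [CharP K p] {a : Fin l → ℤ} (ha : IsRoot cs hp.isCartan a) {t : ↥(D.group K)}
    (ht : t ∈ TT D K) (h : t ∈ Subgroup.normalizer (XX D l K a : Set ↥(D.group K))) :
    sg (XX D l K a) ⟨t, h⟩ = et K (ch hp a t) := by
  have C := (coords (K := K) hp cs p).coord a ha
  have h0 := C.chi_ne_zero ht
  have h1 : et K (ch hp a t) = eta K (Units.mk0 _ h0) := by rw [← et_unit, Units.val_mk0]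
  rw [h1, sg_apply]
  let f : K → ↥(XX D l K a) := fun c => ⟨xc hp a c, (C.mem _).2 ⟨c, rfl⟩⟩
  have hf : Function.Bijective f := by
    constructor
    · intro c d hcd
      exact C.inj (congrArg Subtype.val hcd)
    · rintro ⟨y, hy⟩
      obtain ⟨c, rfl⟩ := (C.mem y).1 hy
      exact ⟨c, rfl⟩
  refine (sgn_equiv _ _ (Equiv.ofBijective f hf) fun c => ?_).symm
  apply Subtype.ext
  change xc hp a (ch hp a t * c) = t * xc hp a c * t⁻¹
  rw [C.act t ht]

/-- the parity of a weight -/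
def Par (D : ChevalleyDatum) (l : ℕ) (x : Fin l → ℤ) : Prop := ∀ i, Even (pairing (cartanOf D l) i x)

/-- the character `et ∘ a` of the torus -/
theorem et_hc {a : Fin l → ℤ} (ha : IsRoot cs hp.isCartan a) (i : Fin l) {c : K} (hc0 : c ≠ 0) :
    et K (ch hp a (hc hp i c)) = et K c ^ pairing (cartanOf D l) i a := by
  rw [← cX_root hp cs (hc_mem hp i hc0) ha, cX_hc hp i hc0, et_zpow hc0]

theorem tag_iff (h2 : (2 : K) ≠ 0) (p : ℕ) [Fact p.Prime] [CharP K p] {a b : Fin l → ℤ} (ha : IsRoot cs hp.isCartan a)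
    (hb : IsRoot cs hp.isCartan b) :
    (∀ t ∈ TT D K, et K (ch hp a t) = et K (ch hp b t)) ↔ Par D l (a - b) := by
  have hpair : ∀ i, pairing (cartanOf D l) i (a - b) = pairing (cartanOf D l) i a - pairing (cartanOf D l) i b := by
    intro i
    unfold pairing
    rw [← Finset.sum_sub_distrib]
    refine Finset.sum_congr rfl fun j _ => ?_
    rw [Pi.sub_apply, mul_sub]
  constructor
  · intro h i
    obtain ⟨ω, hω⟩ := exists_eta K h2
    have h3 := h _ (hc_mem hp i ω.ne_zero)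
    rw [et_hc hp cs ha i ω.ne_zero, et_hc hp cs hb i ω.ne_zero, et_unit, hω] at h3
    rw [hpair, ← neg_one_zpow_iff, zpow_sub, h3, mul_inv_cancel]
  · intro h t ht
    have key : ∀ t ∈ Subgroup.closure {g | ∃ (j : Fin l) (c : K), c ≠ 0 ∧ g = hc hp j c},
        t ∈ TT D K ∧ et K (ch hp a t) = et K (ch hp b t) := by
      intro t ht
      induction ht using Subgroup.closure_induction with
      | mem x hx =>
        obtain ⟨j, c, hc0, rfl⟩ := hx
        refine ⟨hc_mem hp j hc0, ?_⟩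
        rw [et_hc hp cs ha j hc0, et_hc hp cs hb j hc0]
        have h4 := zpow_even (et K c) (h j)
        rw [hpair, zpow_sub, mul_inv_eq_one] at h4
        exact h4
      | one =>
        refine ⟨one_mem _, ?_⟩
        rw [← cX_root hp cs (one_mem _) ha, ← cX_root hp cs (one_mem _) hb, cX_one, cX_one]
      | mul x y _ _ hx hy =>
        refine ⟨mul_mem hx.1 hy.1, ?_⟩
        have Ca := (coords (K := K) hp cs p).coord a ha
        have Cb := (coords (K := K) hp cs p).coord b hb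
        rw [Ca.chi_mul hx.1 hy.1, Cb.chi_mul hx.1 hy.1, et_mul (Ca.chi_ne_zero hx.1) (Ca.chi_ne_zero hy.1),
          et_mul (Cb.chi_ne_zero hx.1) (Cb.chi_ne_zero hy.1), hx.2, hy.2]
      | inv x _ hx =>
        refine ⟨inv_mem hx.1, ?_⟩
        have hinv : ∀ c : Fin l → ℤ, IsRoot cs hp.isCartan c → et K (ch hp c x⁻¹) = et K (ch hp c x) := by
          intro c hc
          have Cc := (coords (K := K) hp cs p).coord c hc
          have h5 := Cc.chi_mul hx.1 (inv_mem hx.1)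
          rw [mul_inv_cancel, ← cX_root hp cs (one_mem _) hc, cX_one] at h5
          have h6 := et_mul (Cc.chi_ne_zero hx.1) (Cc.chi_ne_zero (inv_mem hx.1))
          rw [← h5, et_one] at h6
          have h7 := sq_eq_one' (et K (ch hp c x))
          exact (mul_left_cancel (h6.symm.trans h7.symm))
        rw [hinv a ha, hinv b hb, hx.2]
    exact (key t (TT_le hp ht)).2

/-- parity is invariant under the Weyl group -/
theorem Par.act {x : Fin l → ℤ} (hx : Par D l x) (w : W) : Par D l (rep cs hp.isCartan w x) := by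
  obtain ⟨ω, rfl⟩ := cs.wordProd_surjective w
  induction ω with
  | nil => rwa [wordProd_nil, map_one, Module.End.one_apply]
  | cons j ω ih =>
    rw [wordProd_cons, rep_mul_apply, rep_simple_eq]
    intro i
    set y := rep cs hp.isCartan (cs.wordProd ω) x with hy
    have h1 : pairing (cartanOf D l) i (y - pairing (cartanOf D l) j y • sr j) =
        pairing (cartanOf D l) i y - pairing (cartanOf D l) j y * cartanOf D l i j := by
      rw [← pairing_sr hp i j]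
      unfold pairing
      rw [Finset.mul_sum, ← Finset.sum_sub_distrib]
      refine Finset.sum_congr rfl fun k _ => ?_
      rw [Pi.sub_apply, Pi.smul_apply, smul_eq_mul]
      ring
    rw [h1]
    exact (ih i).sub ((ih j).mul_right _)

end Cfsg.Agent.H287.OC
end

-- part: H287/OC/D4Weyl
section
/-!
# S4891 (R12), `D₄`: double cosets (helper287)

* `vc r` : the roots, `r < 24`; `wr r` : an element of `W` with `(wr r)⁻¹ θ = vc r`;
* `tag_iff4` : when two sign characters agree on `T`;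
* `count` : the number of double cosets as the number of orbits on roots;
* `dc_of_root` : double cosets `P g P`.
-/

set_option autoImplicit false
set_option linter.unusedSectionVars false

open Cfsg Cfsg.Lie

namespace Cfsg.Agent.H287.OC

open CoxeterSystem Cfsg.Agent.ChevalleyStructure.CoxeterGeom Cfsg.Agent.Tits.Roots Cfsg.Agent.Tits.Core
  Cfsg.Agent.Tits.Exchange Cfsg.Agent.Tits.RootComb
  Cfsg.Agent.Nodes.Reps Cfsg.Agent.Nodes.BNOf Cfsg.Agent.Nodes.StabComb Cfsg.Agent.Nodes.Bruhat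
  Cfsg.Agent.Nodes.LeviDec Cfsg.Agent.Nodes.RGDChev Cfsg.Agent.ChevalleyStructure.CoxeterGeomTypes
  Cfsg.Agent.KFacts.RgdAut Cfsg.Agent.KFacts.RgdDiag Cfsg.Agent.KFacts.RgdChevCoord Cfsg.Agent.KFacts.RgdField
  Cfsg.Agent.H932.OC

universe u

instance finW4 : Finite coxeterD4.Group := finite_W hp4 cs4

/-- the roots -/
abbrev vc (r : ℕ) : Fin 4 → ℤ := vec chevD4 4 r

theorem nr24 : chevD4.nroots = 24 := by decide

theorem vc_th : vc 23 = th := by decide +kernel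

/-- the reflections on the roots -/
abbrev rf (i : Fin 4) (r : ℕ) : ℕ := chevD4.reflectRoot i r

theorem rf_lt : ∀ r < 24, ∀ i : Fin 4, rf i r < 24 := by decide +kernel

theorem rep_vc (i : Fin 4) {r : ℕ} (hr : r < 24) :
    rep cs4 hp4.isCartan (cs4.simple i) (vc r) = vc (rf i r) := rep_vec hp4 cs4 i (by rw [nr24]; exact hr)

theorem root_vc {r : ℕ} (hr : r < 24) : IsRoot cs4 hp4.isCartan (vc r) := isRoot_vec hp4 cs4 (by rw [nr24]; exact hr)

theorem root_th : IsRoot cs4 hp4.isCartan th := by rw [← vc_th]; exact root_vc (by norm_num)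

theorem exists_vc {x : Fin 4 → ℤ} (hx : IsRoot cs4 hp4.isCartan x) : ∃ r < 24, x = vc r := by
  obtain ⟨r, hr, e⟩ := (isRoot_iff hp4 cs4 x).1 hx
  exact ⟨r, by rwa [nr24] at hr, e.symm⟩

theorem rep_foldr (ω : List (Fin 4)) {r : ℕ} (hr : r < 24) :
    ω.foldr rf r < 24 ∧ rep cs4 hp4.isCartan (cs4.wordProd ω) (vc r) = vc (ω.foldr rf r) := by
  induction ω with
  | nil => exact ⟨hr, by rw [wordProd_nil, map_one, Module.End.one_apply, List.foldr_nil]⟩
  | cons i ω ih => exact ⟨rf_lt _ ih.1 i, by rw [wordProd_cons, rep_mul_apply, ih.2, rep_vc i ih.1, List.foldr_cons]⟩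

/-- words leading from the highest root to the roots -/
def wdl : List (List (Fin 4)) := [[1, 2, 0, 1, 3, 1, 2, 0, 1], [2, 0, 1, 3, 1, 2, 0, 1], [2, 0, 1, 3, 2, 0, 1],
  [0, 1, 3, 1, 2, 0, 1], [0, 1, 3, 2, 0, 1], [0, 1, 3, 2, 1], [2, 1, 3, 1, 2, 0, 1], [2, 1, 3, 2, 0, 1],
  [1, 3, 1, 2, 0, 1], [1, 3, 2, 0, 1], [2, 1, 3, 0, 1], [3, 1, 2, 0, 1], [1, 2, 0, 1], [1, 3, 0, 1], [3, 2, 0, 1],
  [2, 0, 1], [3, 0, 1], [0, 1], [1, 3, 2, 1], [3, 2, 1], [2, 1], [3, 1], [1], []]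

theorem wdl_foldr : ∀ r < 24, (wdl.getD r []).foldr rf 23 = r := by decide +kernel

/-- an element of `W` with `(wr r)⁻¹ θ = vc r` -/
noncomputable def wr (r : ℕ) : coxeterD4.Group := (cs4.wordProd (wdl.getD r []))⁻¹

theorem rep_wr {r : ℕ} (hr : r < 24) : rep cs4 hp4.isCartan (wr r)⁻¹ th = vc r := by
  unfold wr
  rw [inv_inv, ← vc_th, (rep_foldr (wdl.getD r []) (by norm_num)).2, wdl_foldr r hr]

/-- the outer nodes -/
abbrev J4 : Set (Fin 4) := {0, 2, 3}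

theorem orth_th : orth cs4 hp4.isCartan th = J4 := by
  ext i
  rw [mem_orth]
  have h1 : ∀ i : Fin 4, (pairing (cartanOf chevD4 4) i th = 0 ↔ (i = 0 ∨ i = 2 ∨ i = 3)) := by decide +kernel
  rw [h1]
  rfl

theorem dom_th : Dom (cartanOf chevD4 4) th := by
  have h1 : ∀ i : Fin 4, 0 ≤ pairing (cartanOf chevD4 4) i th := by decide +kernel
  exact h1

theorem mem_WJ4 {w : coxeterD4.Group} : w ∈ WJ cs4 J4 ↔ rep cs4 hp4.isCartan w th = th := by
  rw [← orth_th]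
  exact ⟨rep_of_mem_WJ_orth, mem_WJ_of_rep dom_th⟩

/-- the double coset of an element of `W` is determined by a root -/
theorem wdc_iff {J' : Set (Fin 4)} {v v' : coxeterD4.Group} :
    (∃ z ∈ WJ cs4 J4, ∃ u ∈ WJ cs4 J', v = z * v' * u) ↔
      ∃ u ∈ WJ cs4 J', rep cs4 hp4.isCartan v⁻¹ th = rep cs4 hp4.isCartan u (rep cs4 hp4.isCartan v'⁻¹ th) := by
  constructor
  · rintro ⟨z, hz, u, hu, rfl⟩
    refine ⟨u⁻¹, inv_mem hu, ?_⟩
    have e : (z * v' * u)⁻¹ = u⁻¹ * v'⁻¹ * z⁻¹ := by group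
    rw [e, rep_mul_apply, rep_mul_apply, mem_WJ4.1 (inv_mem hz)]
  · rintro ⟨u, hu, e⟩
    refine ⟨v * u * v'⁻¹, mem_WJ4.2 ?_, u⁻¹, inv_mem hu, by group⟩
    rw [rep_mul_apply, rep_mul_apply, ← e, rep_apply_inv]

/-- invariants of orbits on roots -/
theorem inv_orbit {J' : Set (Fin 4)} (c : ℕ → ℕ) (hc : ∀ j ∈ J', ∀ r < 24, c (rf j r) = c r) {u : coxeterD4.Group}
    (hu : u ∈ WJ cs4 J') : ∀ r < 24, ∃ s < 24, rep cs4 hp4.isCartan u (vc r) = vc s ∧ c s = c r := by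
  unfold WJ at hu
  induction hu using Subgroup.closure_induction with
  | mem w hw =>
    obtain ⟨i, hi, rfl⟩ := hw
    intro r hr
    exact ⟨rf i r, rf_lt r hr i, rep_vc i hr, hc i hi r hr⟩
  | one => exact fun r hr => ⟨r, hr, by rw [map_one, Module.End.one_apply], rfl⟩
  | mul v w _ _ ih1 ih2 =>
    intro r hr
    obtain ⟨s, hs, e1, e2⟩ := ih2 r hr
    obtain ⟨t, ht, e3, e4⟩ := ih1 s hs
    exact ⟨t, ht, by rw [rep_mul_apply, e1, e3], e4.trans e2⟩
  | inv w _ ih =>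
    intro r hr
    obtain ⟨s, hs, e1⟩ := exists_vc ((root_vc hr).act w⁻¹)
    obtain ⟨t, ht, e2, e3⟩ := ih s hs
    have h1 : vc t = vc r := by rw [← e2, ← e1, rep_apply_inv]
    have h2 := vec_inj hp4 (by rw [nr24]; exact ht) (by rw [nr24]; exact hr) h1
    exact ⟨s, hs, e1, by rw [← e3, h2]⟩

theorem pair_vc (i : Fin 4) {r s : ℕ} (hr : r < 24) (hs : s < 24) :
    pairing (cartanOf chevD4 4) i (vc r - vc s) = chevD4.cartan i r - chevD4.cartan i s := by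
  rw [← pairing_vec hp4 i (by rw [nr24]; exact hr), ← pairing_vec hp4 i (by rw [nr24]; exact hs)]
  unfold pairing
  rw [← Finset.sum_sub_distrib]
  refine Finset.sum_congr rfl fun j _ => ?_
  rw [Pi.sub_apply, mul_sub]

theorem par_vc {r s : ℕ} (hr : r < 24) (hs : s < 24) :
    Par chevD4 4 (vc r - vc s) ↔ ∀ i : Fin 4, Even (chevD4.cartan i r - chevD4.cartan i s) := by
  unfold Par
  refine forall_congr' fun i => ?_
  rw [pair_vc i hr hs]

/-- the sign as a complex number -/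
def sC : ℤˣ →* ℂˣ := Units.map (Int.castRingHom ℂ : ℤ →* ℂ)

theorem sC_inj : Function.Injective sC := by
  intro a b h
  have h1 := congrArg Units.val h
  change ((a : ℤ) : ℂ) = ((b : ℤ) : ℂ) at h1
  exact Units.ext (by exact_mod_cast h1)

variable {K : Type u} [Field K] [Finite K]

/-- agreement on `T` of two sign characters -/
theorem tag_iff4 (h2 : (2 : K) ≠ 0) (p : ℕ) [Fact p.Prime] [CharP K p] {J J' : Set (Fin 4)} {r s : ℕ} (hr : r < 24)
    (hs : s < 24) {ξ : ↥(PJ cs4 hp4.isCartan (T4 K) (X4 K) J) →* ℂˣ}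
    {ξ' : ↥(PJ cs4 hp4.isCartan (T4 K) (X4 K) J') →* ℂˣ}
    (hT : ∀ t ∈ T4 K, ∀ h, ξ ⟨t, h⟩ = sC (et K (ch hp4 (vc r) t)))
    (hT' : ∀ t ∈ T4 K, ∀ h, ξ' ⟨t, h⟩ = sC (et K (ch hp4 (vc s) t))) {w : coxeterD4.Group} {g : ↥(chevD4.group K)}
    (hg : Rp cs4 (R4 K p).nsys w g) :
    TAg ξ ξ' g ↔ Par chevD4 4 (rep cs4 hp4.isCartan w⁻¹ (vc r) - vc s) := by
  have hTJ : ∀ {J : Set (Fin 4)}, T4 K ≤ PJ cs4 hp4.isCartan (T4 K) (X4 K) J := fun {J} => le_trans RGD.T_le_B B_le_PJ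
  have C := coords (K := K) hp4 cs4 p
  have h0 : (∀ t ∈ T4 K, et K (ch hp4 (vc r) t) = et K (ch hp4 (rep cs4 hp4.isCartan w (vc s)) t)) ↔
      Par chevD4 4 (rep cs4 hp4.isCartan w⁻¹ (vc r) - vc s) := by
    rw [tag_iff hp4 cs4 h2 p (root_vc hr) ((root_vc hs).act w)]
    have e : rep cs4 hp4.isCartan w⁻¹ (vc r - rep cs4 hp4.isCartan w (vc s)) = rep cs4 hp4.isCartan w⁻¹ (vc r) - vc s := by
      rw [map_sub, rep_inv_apply]
    rw [← e]
    constructor
    · exact fun h => h.act hp4 cs4 w⁻¹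
    · intro h
      have h1 := h.act hp4 cs4 w
      rwa [rep_apply_inv] at h1
  rw [← h0]
  have hch : ∀ t ∈ T4 K, ch hp4 (rep cs4 hp4.isCartan w (vc s)) t = ch hp4 (vc s) (g⁻¹ * t * g) := by
    intro t ht
    have h1 := C.chi_rp (R4 K p).nsys hg (root_vc hs) (conj_T (R4 K p) hg ht)
    have e : g * (g⁻¹ * t * g) * g⁻¹ = t := by group
    rwa [e] at h1
  constructor
  · intro h t ht
    have h1 := h t ht (hTJ ht) (hTJ (conj_T (R4 K p) hg ht))
    rw [hT t ht, hT' _ (conj_T (R4 K p) hg ht)] at h1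
    rw [hch t ht]
    exact sC_inj h1
  · intro h t ht h1 h3
    rw [hT t ht, hT' _ (conj_T (R4 K p) hg ht), h t ht, hch t ht]

/-- **the number of double cosets is a number of orbits on the roots** -/
theorem count [Fintype ↥(chevD4.group K)] (h2 : (2 : K) ≠ 0) (p : ℕ) [Fact p.Prime] [CharP K p] {J' : Set (Fin 4)}
    {m : ℕ} (b : Fin m → ℕ) (hb : ∀ i, b i < 24) {s : ℕ} (hs : s < 24)
    {ξ : ↥(PJ cs4 hp4.isCartan (T4 K) (X4 K) J4) →* ℂˣ}
    {ξ' : ↥(PJ cs4 hp4.isCartan (T4 K) (X4 K) J') →* ℂˣ}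
    (hξ : ∀ x k, x ^ p ^ k = 1 → ξ x = 1) (hξ' : ∀ x k, x ^ p ^ k = 1 → ξ' x = 1)
    (hT : ∀ t ∈ T4 K, ∀ h, ξ ⟨t, h⟩ = sC (et K (ch hp4 (vc 23) t)))
    (hT' : ∀ t ∈ T4 K, ∀ h, ξ' ⟨t, h⟩ = sC (et K (ch hp4 (vc s) t)))
    (hpar : ∀ i, Par chevD4 4 (vc (b i) - vc s))
    (hdis : ∀ i j, ∀ u ∈ WJ cs4 J', rep cs4 hp4.isCartan u (vc (b i)) = vc (b j) → i = j)
    (hall : ∀ r < 24, Par chevD4 4 (vc r - vc s) → ∃ i, ∃ u ∈ WJ cs4 J', rep cs4 hp4.isCartan u (vc (b i)) = vc r) :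
    classInner (indFun (PJ cs4 hp4.isCartan (T4 K) (X4 K) J4) fun t => (ξ t : ℂ))
      (indFun (PJ cs4 hp4.isCartan (T4 K) (X4 K) J') fun t => (ξ' t : ℂ)) = m := by
  have hG : GG cs4 hp4.isCartan (T4 K) (X4 K) = ⊤ := Cfsg.Agent.KFacts.RgdRigid.GG_eq_top (G1_eq_top hp4 cs4)
  have h23 : (23 : ℕ) < 24 := by norm_num
  have key := inner_rgd (R4 K p) hG hξ hξ' (ι := Fin m) (fun i => wr (b i)) ?_ ?_ ?_
  · rw [key, Fintype.card_fin]
  · intro i
    obtain ⟨g, hg⟩ := exists_rp cs4 (R4 K p).nsys (wr (b i))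
    refine ⟨g, hg, (tag_iff4 h2 p h23 hs hT hT' hg).2 ?_⟩
    rw [vc_th, rep_wr (hb i)]
    exact hpar i
  · rintro i j ⟨v, hv, v', hv', e⟩
    obtain ⟨u, hu, e2⟩ := wdc_iff.1 ⟨v, hv, v', hv', e⟩
    rw [rep_wr (hb i), rep_wr (hb j)] at e2
    exact hdis i j u hu e2.symm
  · intro v g hg hTA
    have h3 := (tag_iff4 h2 p h23 hs hT hT' hg).1 hTA
    rw [vc_th] at h3
    obtain ⟨r, hr, e⟩ := exists_vc (root_th.act v⁻¹)
    rw [e] at h3
    obtain ⟨i, u, hu, e2⟩ := hall r hr h3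
    exact ⟨i, wdc_iff.2 ⟨u, hu, by rw [rep_wr (hb i), e2, e]⟩⟩

/-- double cosets of `P_J` and roots -/
theorem dc_of_root (p : ℕ) [Fact p.Prime] [CharP K p] {v v' u : coxeterD4.Group} {g g' : ↥(chevD4.group K)}
    (hg : Rp cs4 (R4 K p).nsys v g) (hg' : Rp cs4 (R4 K p).nsys v' g') (hu : u ∈ WJ cs4 J4)
    (e : rep cs4 hp4.isCartan v⁻¹ th = rep cs4 hp4.isCartan u (rep cs4 hp4.isCartan v'⁻¹ th)) :
    ∃ a ∈ PJ cs4 hp4.isCartan (T4 K) (X4 K) J4, ∃ b ∈ PJ cs4 hp4.isCartan (T4 K) (X4 K) J4, g = a * g' * b := by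
  obtain ⟨z, hz, u', hu', e2⟩ := wdc_iff.2 ⟨u, hu, e⟩
  obtain ⟨nz, hnz⟩ := exists_rp cs4 (R4 K p).nsys z
  obtain ⟨nu, hnu⟩ := exists_rp cs4 (R4 K p).nsys u'
  have h1 : Rp cs4 (R4 K p).nsys v (nz * g' * nu) := by
    rw [e2]
    exact (hnz.mul hg').mul hnu
  have h2 := h1.unique hg
  refine ⟨nz, LJ_le_PJ (rp_mem_LJ (R4 K p) hz hnz), nu * ((nz * g' * nu)⁻¹ * g),
    mul_mem (LJ_le_PJ (rp_mem_LJ (R4 K p) hu' hnu)) (B_le_PJ (RGD.T_le_B h2)), by group⟩

/-! ### the three counts -/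

theorem par23 : ∀ r < 24, (∀ i : Fin 4, Even (chevD4.cartan i r - chevD4.cartan i 23)) ↔
    (r = 0 ∨ r = 5 ∨ r = 10 ∨ r = 11 ∨ r = 12 ∨ r = 13 ∨ r = 18 ∨ r = 23) := by decide +kernel

theorem par14 : ∀ r < 24, (∀ i : Fin 4, Even (chevD4.cartan i r - chevD4.cartan i 14)) ↔
    (r = 2 ∨ r = 3 ∨ r = 6 ∨ r = 9 ∨ r = 14 ∨ r = 17 ∨ r = 20 ∨ r = 21) := by decide +kernel

/-- orbits under `W_J` -/
def cJ (r : ℕ) : ℕ := if r = 23 then 0 else if r = 0 then 1 else if r = 5 ∨ r = 18 then 2 else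
  if r = 10 ∨ r = 13 then 3 else if r = 11 ∨ r = 12 then 4 else 5

theorem cJ_inv : ∀ r < 24, ∀ j : Fin 4, (j = 0 ∨ j = 2 ∨ j = 3) → cJ (rf j r) = cJ r := by decide +kernel

/-- orbits under `s₁` -/
def c1 (r : ℕ) : ℕ := min r (rf 1 r)

theorem c1_inv : ∀ r < 24, c1 (rf 1 r) = c1 r := by decide +kernel

def b5 : Fin 5 → ℕ := ![23, 0, 18, 13, 12]
def b8 : Fin 8 → ℕ := ![2, 3, 6, 9, 14, 17, 20, 21]
def b7 : Fin 7 → ℕ := ![2, 3, 6, 14, 17, 20, 21]

theorem count5 [Fintype ↥(chevD4.group K)] (h2 : (2 : K) ≠ 0) (p : ℕ) [Fact p.Prime] [CharP K p]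
    {ξ : ↥(PJ cs4 hp4.isCartan (T4 K) (X4 K) J4) →* ℂˣ} (hξ : ∀ x k, x ^ p ^ k = 1 → ξ x = 1)
    (hT : ∀ t ∈ T4 K, ∀ h, ξ ⟨t, h⟩ = sC (et K (ch hp4 (vc 23) t))) :
    classInner (indFun (PJ cs4 hp4.isCartan (T4 K) (X4 K) J4) fun t => (ξ t : ℂ))
      (indFun (PJ cs4 hp4.isCartan (T4 K) (X4 K) J4) fun t => (ξ t : ℂ)) = 5 := by
  have hb : ∀ i, b5 i < 24 := by decide
  have h := count h2 p b5 hb (s := 23) (by norm_num) hξ hξ hT hT (fun i => ?_) (fun i j u hu e => ?_) (fun r hr hp => ?_)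
  · exact_mod_cast h
  · rw [par_vc (hb i) (by norm_num)]
    revert i
    decide +kernel
  · obtain ⟨s, hs, e1, e2⟩ := inv_orbit cJ (fun j hj r hr => cJ_inv r hr j hj) hu (b5 i) (hb i)
    have h3 : b5 j = s := vec_inj hp4 (by rw [nr24]; exact hb j) (by rw [nr24]; exact hs) (e.symm.trans e1)
    rw [← h3] at e2
    revert e2
    clear h3 e e1
    revert i j
    decide
  · rw [par_vc hr (by norm_num), par23 r hr] at hp
    have h3 : ∀ r : ℕ, (r = 0 ∨ r = 5 ∨ r = 10 ∨ r = 11 ∨ r = 12 ∨ r = 13 ∨ r = 18 ∨ r = 23) →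
        ∃ i, b5 i = r ∨ ∃ j : Fin 4, (j = 0 ∨ j = 2 ∨ j = 3) ∧ rf j (b5 i) = r := by
      rintro r (rfl | rfl | rfl | rfl | rfl | rfl | rfl | rfl) <;> decide +kernel
    obtain ⟨i, e | ⟨j, hj, e⟩⟩ := h3 r hp
    · exact ⟨i, 1, one_mem _, by rw [map_one, Module.End.one_apply, e]⟩
    · exact ⟨i, cs4.simple j, simple_mem_WJ cs4 hj, by rw [rep_vc j (hb i), e]⟩

theorem count8 [Fintype ↥(chevD4.group K)] (h2 : (2 : K) ≠ 0) (p : ℕ) [Fact p.Prime] [CharP K p]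
    {ξ : ↥(PJ cs4 hp4.isCartan (T4 K) (X4 K) J4) →* ℂˣ} {ξ' : ↥(PJ cs4 hp4.isCartan (T4 K) (X4 K) ∅) →* ℂˣ}
    (hξ : ∀ x k, x ^ p ^ k = 1 → ξ x = 1) (hξ' : ∀ x k, x ^ p ^ k = 1 → ξ' x = 1)
    (hT : ∀ t ∈ T4 K, ∀ h, ξ ⟨t, h⟩ = sC (et K (ch hp4 (vc 23) t)))
    (hT' : ∀ t ∈ T4 K, ∀ h, ξ' ⟨t, h⟩ = sC (et K (ch hp4 (vc 14) t))) :
    classInner (indFun (PJ cs4 hp4.isCartan (T4 K) (X4 K) J4) fun t => (ξ t : ℂ))
      (indFun (PJ cs4 hp4.isCartan (T4 K) (X4 K) ∅) fun t => (ξ' t : ℂ)) = 8 := by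
  have hb : ∀ i, b8 i < 24 := by decide
  have h := count h2 p b8 hb (s := 14) (by norm_num) hξ hξ' hT hT' (fun i => ?_) (fun i j u hu e => ?_) (fun r hr hp => ?_)
  · exact_mod_cast h
  · rw [par_vc (hb i) (by norm_num)]
    revert i
    decide +kernel
  · rw [WJ_empty hu, map_one, Module.End.one_apply] at e
    have h3 : b8 i = b8 j := vec_inj hp4 (by rw [nr24]; exact hb i) (by rw [nr24]; exact hb j) e
    revert h3
    clear e
    revert i j
    decide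
  · rw [par_vc hr (by norm_num), par14 r hr] at hp
    have h3 : ∀ r : ℕ, (r = 2 ∨ r = 3 ∨ r = 6 ∨ r = 9 ∨ r = 14 ∨ r = 17 ∨ r = 20 ∨ r = 21) → ∃ i, b8 i = r := by
      rintro r (rfl | rfl | rfl | rfl | rfl | rfl | rfl | rfl) <;> decide +kernel
    obtain ⟨i, e⟩ := h3 r hp
    exact ⟨i, 1, one_mem _, by rw [map_one, Module.End.one_apply, e]⟩

theorem count7 [Fintype ↥(chevD4.group K)] (h2 : (2 : K) ≠ 0) (p : ℕ) [Fact p.Prime] [CharP K p]
    {ξ : ↥(PJ cs4 hp4.isCartan (T4 K) (X4 K) J4) →* ℂˣ} {ξ' : ↥(PJ cs4 hp4.isCartan (T4 K) (X4 K) {1}) →* ℂˣ}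
    (hξ : ∀ x k, x ^ p ^ k = 1 → ξ x = 1) (hξ' : ∀ x k, x ^ p ^ k = 1 → ξ' x = 1)
    (hT : ∀ t ∈ T4 K, ∀ h, ξ ⟨t, h⟩ = sC (et K (ch hp4 (vc 23) t)))
    (hT' : ∀ t ∈ T4 K, ∀ h, ξ' ⟨t, h⟩ = sC (et K (ch hp4 (vc 14) t))) :
    classInner (indFun (PJ cs4 hp4.isCartan (T4 K) (X4 K) J4) fun t => (ξ t : ℂ))
      (indFun (PJ cs4 hp4.isCartan (T4 K) (X4 K) {1}) fun t => (ξ' t : ℂ)) = 7 := by
  have hb : ∀ i, b7 i < 24 := by decide
  have h := count h2 p b7 hb (s := 14) (by norm_num) hξ hξ' hT hT' (fun i => ?_) (fun i j u hu e => ?_) (fun r hr hp => ?_)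
  · exact_mod_cast h
  · rw [par_vc (hb i) (by norm_num)]
    revert i
    decide +kernel
  · obtain ⟨s, hs, e1, e2⟩ := inv_orbit c1 (fun j (hj : j = 1) r hr => by rw [hj]; exact c1_inv r hr) hu (b7 i) (hb i)
    have h3 : b7 j = s := vec_inj hp4 (by rw [nr24]; exact hb j) (by rw [nr24]; exact hs) (e.symm.trans e1)
    rw [← h3] at e2
    revert e2
    clear h3 e e1
    revert i j
    decide +kernel
  · rw [par_vc hr (by norm_num), par14 r hr] at hp
    have h3 : ∀ r : ℕ, (r = 2 ∨ r = 3 ∨ r = 6 ∨ r = 9 ∨ r = 14 ∨ r = 17 ∨ r = 20 ∨ r = 21) →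
        ∃ i, b7 i = r ∨ rf 1 (b7 i) = r := by
      rintro r (rfl | rfl | rfl | rfl | rfl | rfl | rfl | rfl) <;> decide +kernel
    obtain ⟨i, e | e⟩ := h3 r hp
    · exact ⟨i, 1, one_mem _, by rw [map_one, Module.End.one_apply, e]⟩
    · exact ⟨i, cs4.simple 1, simple_mem_WJ cs4 rfl, by rw [rep_vc 1 (hb i), e]⟩

end Cfsg.Agent.H287.OC
end

-- part: H287/OC/D4Lam
section
/-!
# S4891 (R12), `D₄`: the characters of order two of `P_J`, `P₁`, `B` (helper287)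

* `lamJ` : the sign of `P_J` on the highest root group; `lam1` : the sign of `P₁` on `P₁ / B`; `lamB` : its restriction to `B`;
* they are trivial on `p`-elements, their values on `T` are `et ∘ θ`, `et ∘ α₁`, `et ∘ α₁`;
* they are invariant under the automorphisms fixing the subgroups.
-/

set_option autoImplicit false
set_option linter.unusedSectionVars false

open Cfsg Cfsg.Lie

namespace Cfsg.Agent.H287.OC

open CoxeterSystem Cfsg.Agent.ChevalleyStructure.CoxeterGeom Cfsg.Agent.Tits.Roots Cfsg.Agent.Tits.Core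
  Cfsg.Agent.Tits.Exchange Cfsg.Agent.Tits.RootComb
  Cfsg.Agent.Nodes.Reps Cfsg.Agent.Nodes.BNOf Cfsg.Agent.Nodes.StabComb Cfsg.Agent.Nodes.Bruhat
  Cfsg.Agent.Nodes.LeviDec Cfsg.Agent.Nodes.RGDChev Cfsg.Agent.ChevalleyStructure.CoxeterGeomTypes
  Cfsg.Agent.KFacts.RgdAut Cfsg.Agent.KFacts.RgdDiag Cfsg.Agent.KFacts.RgdChevCoord Cfsg.Agent.KFacts.RgdField
  Cfsg.Agent.H798.Oc.Sign Cfsg.Agent.KFacts.RgdSL

universe u

/-! ### general facts -/

section gen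

variable {G : Type*} [Group G]

theorem map_of_fix {α : MulAut G} {H : Subgroup G} (h : _root_.Cfsg.Agent.KFacts.RgdAut.Fix α H) : H.map α.toMonoidHom = H := fix_iff.1 h

/-- `sq` is invariant under automorphisms -/
theorem sq_aut [Finite G] {Q B : Subgroup G} {α : MulAut G} (hQ : _root_.Cfsg.Agent.KFacts.RgdAut.Fix α Q) (hB : _root_.Cfsg.Agent.KFacts.RgdAut.Fix α B) {x : G} (hx : x ∈ Q)
    (hx' : α x ∈ Q) : _root_.Cfsg.Agent.H798.Oc.Sign.sq Q B ⟨α x, hx'⟩ = _root_.Cfsg.Agent.H798.Oc.Sign.sq Q B ⟨x, hx⟩ := by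
  rw [sq_apply, sq_apply]
  let f : Q ⧸ B.subgroupOf Q → Q ⧸ B.subgroupOf Q :=
    Quotient.map' (fun y : Q => (⟨α y, (hQ y).2 y.2⟩ : Q)) (by
      intro a b hab
      rw [QuotientGroup.leftRel_apply] at hab ⊢
      rw [Subgroup.mem_subgroupOf] at hab ⊢
      change (α (a : G))⁻¹ * α (b : G) ∈ B
      rw [← map_inv, ← map_mul, hB]
      exact hab)
  have hf : ∀ y : Q, f (QuotientGroup.mk y) = QuotientGroup.mk (⟨α y, (hQ y).2 y.2⟩ : Q) := fun y => rfl
  have hinj : Function.Injective f := by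
    intro a b h
    obtain ⟨a, rfl⟩ := QuotientGroup.mk_surjective a
    obtain ⟨b, rfl⟩ := QuotientGroup.mk_surjective b
    rw [hf, hf, QuotientGroup.eq, Subgroup.mem_subgroupOf] at h
    have h1 : (α (a : G))⁻¹ * α (b : G) ∈ B := h
    rw [← map_inv, ← map_mul, hB] at h1
    rw [QuotientGroup.eq, Subgroup.mem_subgroupOf]
    exact h1
  have hsurj : Function.Surjective f := by
    intro a
    obtain ⟨a, rfl⟩ := QuotientGroup.mk_surjective a
    have h1 : α.symm (a : G) ∈ Q := (hQ _).1 (by rw [MulEquiv.apply_symm_apply]; exact a.2)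
    refine ⟨QuotientGroup.mk ⟨α.symm (a : G), h1⟩, ?_⟩
    rw [hf]
    congr 1
    apply Subtype.ext
    exact MulEquiv.apply_symm_apply α _
  refine (sgn_equiv _ _ (Equiv.ofBijective f ⟨hinj, hsurj⟩) fun o => ?_).symm
  obtain ⟨a, rfl⟩ := QuotientGroup.mk_surjective o
  change f ((⟨x, hx⟩ : Q) • (QuotientGroup.mk a : Q ⧸ B.subgroupOf Q)) = (⟨α x, hx'⟩ : Q) • f (QuotientGroup.mk a)
  rw [hf]
  change f (QuotientGroup.mk ((⟨x, hx⟩ : Q) * a)) = QuotientGroup.mk ((⟨α x, hx'⟩ : Q) * ⟨α a, (hQ a).2 a.2⟩)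
  rw [hf]
  congr 1
  apply Subtype.ext
  exact map_mul α x a

/-- `sg` is invariant under automorphisms -/
theorem sg_aut [Finite G] {V : Subgroup G} {α : MulAut G} (hV : _root_.Cfsg.Agent.KFacts.RgdAut.Fix α V) {x : G}
    (hx : x ∈ Subgroup.normalizer (V : Set G)) (hx' : α x ∈ Subgroup.normalizer (V : Set G)) :
    sg V ⟨α x, hx'⟩ = sg V ⟨x, hx⟩ := by
  rw [← sg_map V α x hx (mem_normalizer_map hx)]
  exact sg_congr (map_of_fix hV).symm rfl _ _

end gen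

theorem odd_pow {p : ℕ} [hp : Fact p.Prime] (hp2 : p ≠ 2) (k : ℕ) : Odd (p ^ k) :=
  (hp.out.odd_of_ne_two hp2).pow

/-! ### `P_J` normalises the highest root group -/

theorem sl4 : SL cs4 hp4.isCartan :=
  KFacts.RgdKap.sl_of (fun i j => by fin_cases i <;> fin_cases j <;> decide)
    (fun i j => by fin_cases i <;> fin_cases j <;> decide)

theorem coef_two : ∀ r < 24, 2 ≤ vc r 1 → r = 23 := by decide +kernel

variable (K : Type u) [Field K] [Finite K]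

theorem X_le_norm (p : ℕ) [Fact p.Prime] [CharP K p] {x : Fin 4 → ℤ} (hx : IsRoot cs4 hp4.isCartan x) (h0 : 0 ≤ x 1) :
    X4 K x ≤ Subgroup.normalizer (X4 K th : Set ↥(chevD4.group K)) := by
  have h1 := (R4 K p).le_normalizer (x := x) (S := {th}) hx (fun y hy => by
    rw [Set.mem_singleton_iff] at hy
    subst hy
    refine ⟨root_th, ?_⟩
    by_cases hxt : x = th
    · exact Or.inl hxt
    right
    have hne : x ≠ -th := by
      rintro rfl
      exact absurd h0 (by decide)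
    refine ⟨hne, fun z hz => ?_⟩
    exfalso
    obtain ⟨-, h2⟩ := sl4.btwn hx root_th hxt hne hz
    obtain ⟨r, hr, e⟩ := exists_vc hz.1
    have h3 : 2 ≤ vc r 1 := by
      rw [← e, h2, Pi.add_apply]
      have : th 1 = 2 := by decide
      omega
    have h4 := coef_two r hr h3
    rw [h4, vc_th, h2] at e
    have h5 : x = 0 := by
      have := congrArg (fun v => v - th) e
      simpa using this
    exact hx.ne_zero h5)
  rwa [KFacts.RgdFld.Layer.Sup_one] at h1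

theorem PJ_le_norm (p : ℕ) [Fact p.Prime] [CharP K p] :
    PJ cs4 hp4.isCartan (T4 K) (X4 K) J4 ≤ Subgroup.normalizer (X4 K th : Set ↥(chevD4.group K)) := by
  refine sup_le (sup_le ?_ ?_) ?_
  · intro t ht
    rw [mem_normalizer_iff_cj]
    exact (R4 K p).tor th root_th t ht
  · refine RGD.Sup_le fun x hx => X_le_norm K p hx.1 ?_
    rw [hx.2 1 (by decide)]
  · exact RGD.Sup_le fun x hx => X_le_norm K p hx.1 (hx.2.1 1)

/-! ### the characters -/

variable {K}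

/-- the sign on the highest root group -/
noncomputable def lamJ (K : Type u) [Field K] [Finite K] (p : ℕ) [Fact p.Prime] [CharP K p] :
    ↥(PJ cs4 hp4.isCartan (T4 K) (X4 K) J4) →* ℂˣ :=
  sC.comp ((sg (X4 K th)).comp (Subgroup.inclusion (PJ_le_norm K p)))

theorem lamJ_p {p : ℕ} [Fact p.Prime] [CharP K p] (hp2 : p ≠ 2) :
    ∀ x k, x ^ p ^ k = 1 → lamJ K p x = 1 := by
  intro x k hx
  unfold lamJ
  rw [MonoidHom.comp_apply, MonoidHom.comp_apply, sg_of_odd _ _ (odd_pow hp2 k) (by rw [← map_pow, hx, map_one]), map_one]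

theorem lamJ_T {p : ℕ} [Fact p.Prime] [CharP K p] : ∀ t ∈ T4 K, ∀ h, lamJ K p ⟨t, h⟩ = sC (et K (ch hp4 (vc 23) t)) := by
  intro t ht h
  unfold lamJ
  rw [MonoidHom.comp_apply, MonoidHom.comp_apply, vc_th]
  congr 1
  exact sg_root hp4 cs4 p root_th ht _

theorem lamJ_aut {p : ℕ} [Fact p.Prime] [CharP K p] {α : MulAut ↥(chevD4.group K)} (hX : _root_.Cfsg.Agent.KFacts.RgdAut.Fix α (X4 K th)) {x : ↥(chevD4.group K)}
    (hx : x ∈ PJ cs4 hp4.isCartan (T4 K) (X4 K) J4) (hx' : α x ∈ PJ cs4 hp4.isCartan (T4 K) (X4 K) J4) :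
    lamJ K p ⟨α x, hx'⟩ = lamJ K p ⟨x, hx⟩ := by
  unfold lamJ
  rw [MonoidHom.comp_apply, MonoidHom.comp_apply, MonoidHom.comp_apply, MonoidHom.comp_apply]
  (with_reducible congr 1)
  exact sg_aut hX (PJ_le_norm K p hx) (PJ_le_norm K p hx')

/-- the sign on the panel -/
noncomputable def lam1 (K : Type u) [Field K] [Finite K] : ↥(PJ cs4 hp4.isCartan (T4 K) (X4 K) {1}) →* ℂˣ :=
  sC.comp (_root_.Cfsg.Agent.H798.Oc.Sign.sq (PJ cs4 hp4.isCartan (T4 K) (X4 K) {1}) (RGD.B cs4 hp4.isCartan (T4 K) (X4 K)))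

theorem lam1_p {p : ℕ} [Fact p.Prime] (hp2 : p ≠ 2) : ∀ x k, x ^ p ^ k = 1 → lam1 K x = 1 := by
  intro x k hx
  unfold lam1
  rw [MonoidHom.comp_apply, sq_of_odd _ _ _ (odd_pow hp2 k) hx, map_one]

theorem lam1_aut {α : MulAut ↥(chevD4.group K)} (hQ : _root_.Cfsg.Agent.KFacts.RgdAut.Fix α (PJ cs4 hp4.isCartan (T4 K) (X4 K) {1}))
    (hB : _root_.Cfsg.Agent.KFacts.RgdAut.Fix α (RGD.B cs4 hp4.isCartan (T4 K) (X4 K))) {x : ↥(chevD4.group K)}
    (hx : x ∈ PJ cs4 hp4.isCartan (T4 K) (X4 K) {1}) (hx' : α x ∈ PJ cs4 hp4.isCartan (T4 K) (X4 K) {1}) :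
    lam1 K ⟨α x, hx'⟩ = lam1 K ⟨x, hx⟩ := by
  unfold lam1
  rw [MonoidHom.comp_apply, MonoidHom.comp_apply, sq_aut hQ hB hx hx']

section panel

variable {I W Y : Type*} [Fintype I] [DecidableEq I] [Group W] [Group Y] {M : CoxeterMatrix I}
  {cs : CoxeterSystem M W} {A : I → I → ℤ} {h : IsCartan M A} {p : ℕ} {T : Subgroup Y} {n : I → Y}
  {X : (I → ℤ) → Subgroup Y} (R : RGD cs h p T n X)

include R

/-- the sign on the panel `P_i / B` is the sign on the root group `X_i` -/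
theorem sq_panel [Finite W] [Finite Y] (i : I) {t : Y} (ht : t ∈ T) (h1 : t ∈ PJ cs h T X {i})
    (h2 : t ∈ Subgroup.normalizer (X (sr i) : Set Y)) :
    _root_.Cfsg.Agent.H798.Oc.Sign.sq (PJ cs h T X {i}) (RGD.B cs h T X) ⟨t, h1⟩ = sg (X (sr i)) ⟨t, h2⟩ := by
  have hXB : X (sr i) ≤ RGD.B cs h T X := RGD.X_le_B (isRoot_sr cs h i) (sr_nonneg i)
  have hn : n i ∈ PJ cs h T X {i} := LJ_le_PJ (n_mem_LJ R (Set.mem_singleton i))
  refine sq_eq_sg (n := n i) B_le_PJ hXB hn ?_ ?_ ?_ h2 (RGD.T_le_B ht) ?_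
  · intro g hg
    obtain ⟨w, hw, hc⟩ := (mem_PJ_iff_cell R).1 hg
    rcases mem_WJ_singleton hw with rfl | rfl
    · exact Or.inl hc.mem_of_one
    right
    obtain ⟨b₁, hb₁, k, hk, b₂, hb₂, rfl⟩ := hc
    obtain ⟨v, hv, u, hu, s, hs, rfl⟩ := R.mem_B' i hb₁
    refine ⟨u, hu, ?_⟩
    have hks : (n i)⁻¹ * (s * k) ∈ T := by
      have h3 := (rp_simple cs R.nsys i)
      have h4 : Rp cs R.nsys (1 * cs.simple i) (s * k) := (rp_of_mem hs).mul hk
      rw [one_mul] at h4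
      exact h3.unique h4
    have hv' : u⁻¹ * v * u ∈ RGD.Sup X (RGD.PosNe cs h i) :=
      (Subgroup.mem_normalizer_iff''.1 (R.X_le_normalizer_V i hu) v).1 hv
    have hv'' : (n i)⁻¹ * (u⁻¹ * v * u) * n i ∈ RGD.Sup X (RGD.PosNe cs h i) := by
      have h5 : u⁻¹ * v * u ∈ cj (n i) (RGD.Sup X (RGD.PosNe cs h i)) := by rw [R.cj_n_V i]; exact hv'
      exact mem_cj.1 h5
    have hle : RGD.Sup X (RGD.PosNe cs h i) ≤ RGD.B cs h T X :=
      le_trans (RGD.Sup_mono fun (x : I → ℤ) (hx : x ∈ RGD.PosNe cs h i) => (⟨hx.1, hx.2.1⟩ : x ∈ RGD.Pos cs h)) RGD.U_le_B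
    refine ⟨((n i)⁻¹ * (u⁻¹ * v * u) * n i) * ((n i)⁻¹ * (s * k)) * b₂,
      mul_mem (mul_mem (hle hv'') (RGD.T_le_B hks)) hb₂, by group⟩
  · intro x hx hB
    have h3 : Rp cs R.nsys (cs.simple i) (n i)⁻¹ := by
      have h4 := (rp_simple cs R.nsys i).inv
      rwa [cs.inv_simple] at h4
    exact eq_one_of_conj_mem_B R hx h3 (by rwa [inv_inv])
  · intro hB
    have h5 := R.eq_one_of_mem_B (rp_simple cs R.nsys i) hB
    exact simple_ne_one i h5
  · exact RGD.T_le_B (conj_T R (rp_simple cs R.nsys i) ht)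

/-- `P_J` is monotone in `J` -/
theorem PJ_mono [Finite W] {J J' : Set I} (hJ : J ⊆ J') : PJ cs h T X J ≤ PJ cs h T X J' := by
  intro x hx
  obtain ⟨w, hw, hc⟩ := (mem_PJ_iff_cell R).1 hx
  exact (mem_PJ_iff_cell R).2 ⟨w, WJ_mono cs hJ hw, hc⟩

theorem PJ_empty [Finite W] : PJ cs h T X ∅ = RGD.B cs h T X := by
  apply le_antisymm
  · intro x hx
    obtain ⟨w, hw, hc⟩ := (mem_PJ_iff_cell R).1 hx
    rw [WJ_empty hw] at hc
    exact hc.mem_of_one
  · exact B_le_PJ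

end panel

theorem simple14 : chevD4.simple 1 = 14 := by decide +kernel

theorem vc14 : vc 14 = sr 1 := by
  have h := vec_simple hp4 (1 : Fin 4)
  rw [show chevD4.simple ((1 : Fin 4) : ℕ) = 14 from simple14] at h
  exact h

theorem lam1_T {p : ℕ} [Fact p.Prime] [CharP K p] : ∀ t ∈ T4 K, ∀ h, lam1 K ⟨t, h⟩ = sC (et K (ch hp4 (vc 14) t)) := by
  intro t ht h
  unfold lam1
  rw [MonoidHom.comp_apply, vc14]
  congr 1
  have hn : t ∈ Subgroup.normalizer (X4 K (sr 1) : Set ↥(chevD4.group K)) := by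
    rw [mem_normalizer_iff_cj]
    exact (R4 K p).tor _ (isRoot_sr cs4 hp4.isCartan 1) t ht
  rw [sq_panel (R4 K p) 1 ht h hn]
  exact sg_root hp4 cs4 p (isRoot_sr cs4 hp4.isCartan 1) ht hn

/-- the restriction to `B` -/
noncomputable def lamB (K : Type u) [Field K] [Finite K] (p : ℕ) [Fact p.Prime] [CharP K p] :
    ↥(PJ cs4 hp4.isCartan (T4 K) (X4 K) ∅) →* ℂˣ :=
  (lam1 K).comp (Subgroup.inclusion (PJ_mono (R4 K p) (Set.empty_subset {1})))

theorem lamB_p {p : ℕ} [Fact p.Prime] [CharP K p] (hp2 : p ≠ 2) : ∀ x k, x ^ p ^ k = 1 → lamB K p x = 1 := by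
  intro x k hx
  unfold lamB
  rw [MonoidHom.comp_apply]
  exact lam1_p hp2 _ k (by rw [← map_pow, hx, map_one])

theorem lamB_T {p : ℕ} [Fact p.Prime] [CharP K p] : ∀ t ∈ T4 K, ∀ h, lamB K p ⟨t, h⟩ = sC (et K (ch hp4 (vc 14) t)) := by
  intro t ht h
  unfold lamB
  rw [MonoidHom.comp_apply]
  exact lam1_T (p := p) t ht _

theorem lamB_aut {p : ℕ} [Fact p.Prime] [CharP K p] {α : MulAut ↥(chevD4.group K)}
    (hQ : _root_.Cfsg.Agent.KFacts.RgdAut.Fix α (PJ cs4 hp4.isCartan (T4 K) (X4 K) {1}))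
    (hB : _root_.Cfsg.Agent.KFacts.RgdAut.Fix α (RGD.B cs4 hp4.isCartan (T4 K) (X4 K))) {x : ↥(chevD4.group K)}
    (hx : x ∈ PJ cs4 hp4.isCartan (T4 K) (X4 K) ∅) (hx' : α x ∈ PJ cs4 hp4.isCartan (T4 K) (X4 K) ∅) :
    lamB K p ⟨α x, hx'⟩ = lamB K p ⟨x, hx⟩ := by
  unfold lamB
  rw [MonoidHom.comp_apply, MonoidHom.comp_apply]
  exact lam1_aut hQ hB _ _

/-- the three induced characters -/
theorem inner_JJ [Fintype ↥(chevD4.group K)] (h2 : (2 : K) ≠ 0) {p : ℕ} [Fact p.Prime] [CharP K p] (hp2 : p ≠ 2) :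
    classInner (indFun (PJ cs4 hp4.isCartan (T4 K) (X4 K) J4) fun t => (lamJ K p t : ℂ))
      (indFun (PJ cs4 hp4.isCartan (T4 K) (X4 K) J4) fun t => (lamJ K p t : ℂ)) = 5 :=
  count5 h2 p (lamJ_p hp2) lamJ_T

theorem inner_JB [Fintype ↥(chevD4.group K)] (h2 : (2 : K) ≠ 0) {p : ℕ} [Fact p.Prime] [CharP K p] (hp2 : p ≠ 2) :
    classInner (indFun (PJ cs4 hp4.isCartan (T4 K) (X4 K) J4) fun t => (lamJ K p t : ℂ))
      (indFun (PJ cs4 hp4.isCartan (T4 K) (X4 K) ∅) fun t => (lamB K p t : ℂ)) = 8 :=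
  count8 h2 p (lamJ_p hp2) (lamB_p hp2) lamJ_T lamB_T

theorem inner_J1 [Fintype ↥(chevD4.group K)] (h2 : (2 : K) ≠ 0) {p : ℕ} [Fact p.Prime] [CharP K p] (hp2 : p ≠ 2) :
    classInner (indFun (PJ cs4 hp4.isCartan (T4 K) (X4 K) J4) fun t => (lamJ K p t : ℂ))
      (indFun (PJ cs4 hp4.isCartan (T4 K) (X4 K) {1}) fun t => (lam1 K t : ℂ)) = 7 :=
  count7 h2 p (lamJ_p hp2) (lam1_p hp2) lamJ_T (lam1_T (p := p))

end Cfsg.Agent.H287.OC
end

-- part: H763/OC/Five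
section
/-!
# Norm five (S4891, OC layer, R12 (B3) of helper287)

`wt_of_five` : `Ψ` of norm `5`, `⟨Ψ, π⟩ = ⟨Ψ, π'⟩ + 1`, `π' ≤ π`, and three different `A`-invariant constituents of `Ψ` are all of
them.
-/

set_option autoImplicit false

open Cfsg
open scoped ComplexConjugate

namespace Cfsg.Agent.H763.OC

open Cfsg.Agent.H145.BR Cfsg.Agent.H993.OC Cfsg.Agent.Characters Cfsg.Agent.H846.RatB Cfsg.Agent.H623.OddTool
open H700.PRat (zet zet_prim fix_adjoin mem_adjoin_of_forall fix_root)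

universe u

/-- Galois conjugates -/
noncomputable def gal {S : Type u} [Group S] [Finite S] (σ : ℂ ≃+* ℂ) (χ : IrrCharacter S) : IrrCharacter S :=
  ⟨fun g => σ ((χ : S → ℂ) g), GaloisIrr.isIrr_map σ χ.2⟩

/-- **norm five** -/
theorem wt_of_five {p : ℕ} [Fact p.Prime] (_hp2 : p ≠ 2) {S : Type u} [Group S] [Finite S] [Fintype S]
    {A : Subgroup (MulAut S)} (hA : IsPGroup p A) {Ψ : S → ℂ} (hΨ : IsCharacter S Ψ) (h5 : classInner Ψ Ψ = 5)
    (h1 : classInner Ψ 1 = 0) {d : ℕ} (hd : Ψ 1 = d) (hpd : ¬ p ∣ d) (hrat : PRat p Ψ)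
    (hinv : ∀ a ∈ A, ∀ x, Ψ (a x) = Ψ x)
    {π π' : S → ℂ} (hπ : IsCharacter S π) (hπ' : IsCharacter S π') (hrπ : PRat p π) (hrπ' : PRat p π')
    (hiπ : ∀ a ∈ A, ∀ x, π (a x) = π x) (hiπ' : ∀ a ∈ A, ∀ x, π' (a x) = π' x)
    (hle : ∀ χ, IsIrrCharacter S χ → ∃ m : ℕ, classInner π χ = classInner π' χ + m)
    (h1' : classInner Ψ π = classInner Ψ π' + 1)
    (horb : ∀ χ : Fin 3 → S → ℂ, Function.Injective χ → (∀ i, IsIrrCharacter S (χ i)) →
      (∀ i, ∀ a ∈ A, ∀ x, χ i (a x) = χ i x) → (∀ i, classInner Ψ (χ i) ≠ 0) →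
      ∀ ψ, IsIrrCharacter S ψ → classInner Ψ ψ ≠ 0 → ∃ i, ψ = χ i) :
    ∃ θ, Wt p S A θ := by
  classical
  have := Core.finite_irr (G := S)
  have := Fintype.ofFinite (IrrCharacter S)
  obtain ⟨m, hm⟩ := Core.exists_nat_comb hΨ
  obtain ⟨a, ha⟩ := Core.exists_nat_comb hπ
  obtain ⟨b, hb⟩ := Core.exists_nat_comb hπ'
  have inn : ∀ c e : IrrCharacter S → ℕ, classInner (∑ ψ : IrrCharacter S, c ψ • (ψ : S → ℂ))
      (∑ ψ : IrrCharacter S, e ψ • (ψ : S → ℂ)) = ((∑ ψ, c ψ * e ψ : ℕ) : ℂ) := by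
    intro c e
    have h4 := Core.classInner_sum_smul_sum_smul (fun ψ : IrrCharacter S => (c ψ : ℂ)) (fun ψ => (e ψ : ℂ))
    simp only [Nat.cast_smul_eq_nsmul, map_natCast] at h4
    rw [h4]
    push_cast
    rfl
  have e5 : ∑ ψ, m ψ * m ψ = 5 := by
    have h4 := inn m m
    rw [← hm, h5] at h4
    exact_mod_cast h4.symm
  have hmi : ∀ χ : IrrCharacter S, classInner Ψ (χ : S → ℂ) = m χ := by
    intro χ
    rw [hm]
    exact Core.classInner_sum_nsmul_irr m χ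
  have hai : ∀ χ : IrrCharacter S, classInner π (χ : S → ℂ) = a χ := by
    intro χ
    rw [ha]
    exact Core.classInner_sum_nsmul_irr a χ
  have hbi : ∀ χ : IrrCharacter S, classInner π' (χ : S → ℂ) = b χ := by
    intro χ
    rw [hb]
    exact Core.classInner_sum_nsmul_irr b χ
  have hba : ∀ χ, b χ ≤ a χ := by
    intro χ
    obtain ⟨t, ht⟩ := hle χ χ.2
    rw [hai, hbi] at ht
    have h6 : a χ = b χ + t := by exact_mod_cast ht
    omega
  have e1 : ∑ ψ, m ψ * (a ψ - b ψ) = 1 := by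
    have h4 := inn m a
    have h6 := inn m b
    rw [← hm, ← ha] at h4
    rw [← hm, ← hb] at h6
    rw [h4, h6] at h1'
    have h7 : ∑ ψ, m ψ * a ψ = ∑ ψ, m ψ * b ψ + 1 := by exact_mod_cast h1'
    have h8 : ∑ ψ, m ψ * a ψ = ∑ ψ, m ψ * b ψ + ∑ ψ, m ψ * (a ψ - b ψ) := by
      rw [← Finset.sum_add_distrib]
      refine Finset.sum_congr rfl fun ψ _ => ?_
      rw [← mul_add, Nat.add_sub_cancel' (hba ψ)]
    omega
  have two : ∀ (f : IrrCharacter S → ℕ) (x y : IrrCharacter S), x ≠ y → f x + f y ≤ ∑ ψ, f ψ := by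
    intro f x y hxy
    rw [← Finset.sum_pair hxy]
    exact Finset.sum_le_sum_of_subset (Finset.subset_univ _)
  obtain ⟨ρ, hρ⟩ : ∃ ρ, m ρ * (a ρ - b ρ) ≠ 0 := by
    by_contra hcon
    push Not at hcon
    rw [Finset.sum_eq_zero fun ψ _ => hcon ψ] at e1
    omega
  have huniq : ∀ χ, m χ * (a χ - b χ) ≠ 0 → χ = ρ := by
    intro χ hχ
    by_contra hne
    have h6 := two (fun ψ => m ψ * (a ψ - b ψ)) χ ρ hne
    rw [e1] at h6
    have h7 := Nat.pos_of_ne_zero hχ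
    have h8 := Nat.pos_of_ne_zero hρ
    omega
  have hρ1 : m ρ = 1 := by
    have h6 : m ρ * (a ρ - b ρ) ≤ ∑ ψ, m ψ * (a ψ - b ψ) :=
      Finset.single_le_sum (f := fun ψ => m ψ * (a ψ - b ψ)) (fun _ _ => Nat.zero_le _) (Finset.mem_univ ρ)
    rw [e1] at h6
    have h7 : m ρ * (a ρ - b ρ) = 1 := by omega
    exact Nat.eq_one_of_mul_eq_one_right h7
  -- the automorphisms
  have hmt : ∀ α ∈ A, ∀ χ : IrrCharacter S, m (tw α χ) = m χ ∧ a (tw α χ) = a χ ∧ b (tw α χ) = b χ := by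
    intro α hα χ
    refine ⟨?_, ?_, ?_⟩
    · have h6 := inner_tw α (hinv α hα) χ
      rw [hmi, hmi] at h6
      exact_mod_cast h6
    · have h6 := inner_tw α (hiπ α hα) χ
      rw [hai, hai] at h6
      exact_mod_cast h6
    · have h6 := inner_tw α (hiπ' α hα) χ
      rw [hbi, hbi] at h6
      exact_mod_cast h6
  have hρA : ∀ α ∈ A, ∀ x, (ρ : S → ℂ) (α x) = (ρ : S → ℂ) x := by
    intro α hα x
    have h6 : tw α⁻¹ ρ = ρ := by
      apply huniq
      obtain ⟨h7, h8, h9⟩ := hmt α⁻¹ (A.inv_mem hα) ρ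
      rw [h7, h8, h9]
      exact hρ
    have h9 := congrArg (fun θ : IrrCharacter S => (θ : S → ℂ) x) h6
    have h10 : (ρ : S → ℂ) ((α⁻¹)⁻¹ x) = (ρ : S → ℂ) x := h9
    rwa [inv_inv] at h10
  -- Galois
  obtain ⟨n, hn, hF⟩ := common_fin (p := p) (fun o : Option Bool => o.elim Ψ (fun i => if i then π else π')) (by
    rintro (_ | _ | _)
    · exact hrat
    · exact hrπ'
    · exact hrπ)
  have hgal : ∀ σ : ℂ ≃+* ℂ, σ (zet n) = zet n → ∀ χ : IrrCharacter S,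
      m (gal σ χ) = m χ ∧ a (gal σ χ) = a χ ∧ b (gal σ χ) = b χ := by
    intro σ hσ χ
    have hχ := Core.isIrr_isCharacter χ.2
    refine ⟨?_, ?_, ?_⟩
    · have h6 : classInner Ψ (gal σ χ : S → ℂ) = classInner Ψ (χ : S → ℂ) :=
        inner_map σ hΨ hχ fun g => fix_adjoin σ hσ (hF none g)
      rw [hmi, hmi] at h6
      exact_mod_cast h6
    · have h6 : classInner π (gal σ χ : S → ℂ) = classInner π (χ : S → ℂ) :=
        inner_map σ hπ hχ fun g => fix_adjoin σ hσ (hF (some true) g)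
      rw [hai, hai] at h6
      exact_mod_cast h6
    · have h6 : classInner π' (gal σ χ : S → ℂ) = classInner π' (χ : S → ℂ) :=
        inner_map σ hπ' hχ fun g => fix_adjoin σ hσ (hF (some false) g)
      rw [hbi, hbi] at h6
      exact_mod_cast h6
  have hρσ : ∀ σ : ℂ ≃+* ℂ, σ (zet n) = zet n → gal σ ρ = ρ := by
    intro σ hσ
    apply huniq
    obtain ⟨h7, h8, h9⟩ := hgal σ hσ ρ
    rw [h7, h8, h9]
    exact hρ
  have hPRat : ∀ χ : IrrCharacter S, (∀ σ : ℂ ≃+* ℂ, σ (zet n) = zet n → gal σ χ = χ) → PRat p (χ : S → ℂ) := by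
    intro χ hχ
    refine (pRatC_iff (p := p) fun g => integral_irr (Core.isIrr_isCharacter χ.2) g).2 ⟨n, hn, fun σ hσ g => ?_⟩
    have h6 := congrArg (fun θ : IrrCharacter S => (θ : S → ℂ) g) (hχ σ hσ)
    exact h6
  have hne1 : ∀ χ : IrrCharacter S, m χ ≠ 0 → (χ : S → ℂ) ≠ 1 := by
    intro χ hχ h6
    apply hχ
    have h7 := hmi χ
    rw [h6, h1] at h7
    exact_mod_cast h7.symm
  obtain ⟨e, he0, he⟩ := Core.isIrr_apply_one ρ.2
  by_cases hpe : p ∣ e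
  swap
  · exact ⟨ρ, ρ.2, hne1 ρ (by rw [hρ1]; norm_num), ⟨e, he, hpe⟩, hPRat ρ hρσ, hρA⟩
  -- `Ψ - ρ`
  let m' : IrrCharacter S → ℕ := fun χ => if χ = ρ then 0 else m χ
  let Ψ2 : S → ℂ := ∑ ψ : IrrCharacter S, m' ψ • (ψ : S → ℂ)
  have hΨ2 : IsCharacter S Ψ2 := Core.isCharacter_sum _ fun ψ _ => Core.isCharacter_nsmul _ (Core.isIrr_isCharacter ψ.2)
  have hsum : Ψ = Ψ2 + (ρ : S → ℂ) := by
    have h6 : ∀ ψ : IrrCharacter S, m ψ • (ψ : S → ℂ) = m' ψ • (ψ : S → ℂ) +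
        (if ψ = ρ then (ρ : S → ℂ) else 0) := by
      intro ψ
      by_cases h7 : ψ = ρ
      · subst h7
        simp [m', hρ1]
      · simp [m', h7]
    conv_lhs => rw [hm]
    rw [Finset.sum_congr rfl fun ψ _ => h6 ψ, Finset.sum_add_distrib, Finset.sum_ite_eq' Finset.univ ρ,
      if_pos (Finset.mem_univ ρ)]
  have hm2 : ∀ χ : IrrCharacter S, classInner Ψ2 (χ : S → ℂ) = m' χ := fun χ => Core.classInner_sum_nsmul_irr m' χ
  have hΨ2v : ∀ x, Ψ2 x = Ψ x - (ρ : S → ℂ) x := fun x => by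
    rw [hsum, Pi.add_apply, add_sub_cancel_right]
  obtain ⟨d2, hd2⟩ := Core.isCharacter_apply_one hΨ2
  have hpd2 : ¬ p ∣ d2 := by
    intro h6
    apply hpd
    have h7 := congrFun hsum 1
    rw [Pi.add_apply, hd, hd2, he] at h7
    have h8 : d = d2 + e := by exact_mod_cast h7
    rw [h8]
    exact dvd_add h6 hpe
  obtain ⟨θ, hθ, hθc, hθd, hθA⟩ := exists_fixed hA hΨ2 hd2 hpd2 (fun α hα x => by
    rw [hΨ2v, hΨ2v, hinv α hα, hρA α hα])
  obtain ⟨χ, rfl⟩ : ∃ χ : IrrCharacter S, (χ : S → ℂ) = θ := ⟨⟨_, hθ⟩, rfl⟩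
  rw [hm2] at hθc
  have hχρ : χ ≠ ρ := by
    rintro rfl
    apply hθc
    simp [m']
  have hχm : m χ ≠ 0 := by
    intro h6
    apply hθc
    simp [m', hχρ, h6]
  refine ⟨χ, χ.2, hne1 χ hχm, hθd, hPRat χ fun σ hσ => ?_, hθA⟩
  by_contra hne
  obtain ⟨hmσ, -, -⟩ := hgal σ hσ χ
  have hσρ : gal σ χ ≠ ρ := by
    intro h6
    apply hχρ
    apply Subtype.ext
    funext g
    have h7 := congrArg (fun θ : IrrCharacter S => (θ : S → ℂ) g) (h6.trans (hρσ σ hσ).symm)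
    exact σ.injective h7
  have hall := horb ![(ρ : S → ℂ), (χ : S → ℂ), (gal σ χ : S → ℂ)] (by
      intro i j hij
      fin_cases i <;> fin_cases j
      · rfl
      · exact absurd (Subtype.ext hij.symm) hχρ
      · exact absurd (Subtype.ext hij.symm) hσρ
      · exact absurd (Subtype.ext hij) hχρ
      · rfl
      · exact absurd (Subtype.ext hij.symm) hne
      · exact absurd (Subtype.ext hij) hσρ
      · exact absurd (Subtype.ext hij) hne
      · rfl)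
    (by
      intro i
      fin_cases i
      · exact ρ.2
      · exact χ.2
      · exact (gal σ χ).2)
    (by
      intro i α hα x
      fin_cases i
      · exact hρA α hα x
      · exact hθA α hα x
      · change σ ((χ : S → ℂ) (α x)) = σ ((χ : S → ℂ) x)
        rw [hθA α hα x])
    (by
      intro i
      fin_cases i
      · change classInner Ψ (ρ : S → ℂ) ≠ 0
        rw [hmi, hρ1]
        norm_num
      · change classInner Ψ (χ : S → ℂ) ≠ 0
        rw [hmi]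
        exact_mod_cast hχm
      · change classInner Ψ (gal σ χ : S → ℂ) ≠ 0
        rw [hmi, hmσ]
        exact_mod_cast hχm)
  have hcases : ∀ ψ : IrrCharacter S, m ψ ≠ 0 → ψ = ρ ∨ ψ = χ ∨ ψ = gal σ χ := by
    intro ψ hψ
    obtain ⟨i, hi⟩ := hall ψ ψ.2 (by rw [hmi]; exact_mod_cast hψ)
    fin_cases i
    · exact Or.inl (Subtype.ext hi)
    · exact Or.inr (Or.inl (Subtype.ext hi))
    · exact Or.inr (Or.inr (Subtype.ext hi))
  have h6 : ∑ ψ, m ψ * m ψ = ∑ ψ ∈ ({ρ, χ, gal σ χ} : Finset (IrrCharacter S)), m ψ * m ψ := by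
    symm
    apply Finset.sum_subset (Finset.subset_univ _)
    intro ψ _ hψ
    by_contra h7
    apply hψ
    rcases hcases ψ (fun h8 => h7 (by rw [h8, zero_mul])) with h9 | h9 | h9 <;> simp [h9]
  rw [Finset.sum_insert (by
      rw [Finset.mem_insert, Finset.mem_singleton, not_or]
      exact ⟨hχρ.symm, hσρ.symm⟩), Finset.sum_pair (Ne.symm hne), hmσ, hρ1, e5] at h6
  have h7 : m χ * m χ = 2 := by omega
  have h8 : m χ < 2 := by
    by_contra h9
    have h10 := Nat.mul_le_mul (not_lt.1 h9) (not_lt.1 h9)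
    omega
  interval_cases (m χ) <;> omega

end Cfsg.Agent.H763.OC
end

-- part: H763/OC/SylAut
section
/-!
# S4891 (R12), (P3): Sylow `p`-subgroups of `Aut(S)` normalizing a Sylow `p`-subgroup of `S` (helper763)
-/

set_option autoImplicit false

namespace Cfsg.Agent.H763.OC

open Cfsg Cfsg.Agent.KFacts.RgdAut

universe u

section

variable {p : ℕ} [Fact p.Prime] {S : Type u} [Group S]

/-- the stabilizer of a subgroup in `Aut(S)` -/
def fixG (U : Subgroup S) : Subgroup (MulAut S) where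
  carrier := {α | _root_.Cfsg.Agent.KFacts.RgdAut.Fix α U}
  one_mem' := fun _ => Iff.rfl
  mul_mem' := fun ha hb => Fix.mul ha hb
  inv_mem' := fun ha => Fix.inv ha

theorem mem_fixG {U : Subgroup S} {α : MulAut S} : α ∈ fixG U ↔ _root_.Cfsg.Agent.KFacts.RgdAut.Fix α U := Iff.rfl

omit [Fact p.Prime] in
theorem fixG_eq (U : Sylow p S) : fixG (U : Subgroup S) = MulAction.stabilizer (MulAut S) U := by
  ext α
  rw [mem_fixG, MulAction.mem_stabilizer_iff]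
  constructor
  · intro h
    apply Sylow.ext
    rw [Sylow.pointwise_smul_def]
    ext x
    rw [Subgroup.mem_pointwise_smul_iff_inv_smul_mem]
    rw [MulAut.smul_def]
    exact (h.inv x)
  · intro h x
    have h1 := congrArg (fun P : Sylow p S => (P : Subgroup S)) h
    simp only [Sylow.pointwise_smul_def] at h1
    constructor
    · intro hx
      rw [← h1, Subgroup.mem_pointwise_smul_iff_inv_smul_mem, MulAut.smul_def] at hx
      rwa [MulAut.inv_apply_self] at hx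
    · intro hx
      rw [← h1, Subgroup.mem_pointwise_smul_iff_inv_smul_mem, MulAut.smul_def, MulAut.inv_apply_self]
      exact hx

theorem not_dvd_index_fixG [Finite S] (U : Sylow p S) : ¬ p ∣ (fixG (U : Subgroup S)).index := by
  haveI : MulAction.IsPretransitive (MulAut S) (Sylow p S) := by
    refine ⟨fun P Q => ?_⟩
    obtain ⟨g, hg⟩ := MulAction.exists_smul_eq S P Q
    exact ⟨MulAut.conj g, hg⟩
  rw [fixG_eq, MulAction.index_stabilizer_of_transitive]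
  intro h
  have h1 := card_sylow_modEq_one p S
  have h2 : Nat.card (Sylow p S) ≡ 0 [MOD p] := (Nat.modEq_zero_iff_dvd).2 h
  have h3 := (h1.symm.trans h2)
  have h4 : p ∣ 1 := (Nat.modEq_zero_iff_dvd).1 h3
  exact (Fact.out : p.Prime).one_lt.ne' (Nat.dvd_one.1 h4)

/-- **(P3)** -/
theorem exists_sylow_aut [Finite S] (U : Sylow p S) {τ : MulAut S}
    (hτ : _root_.Cfsg.Agent.KFacts.RgdAut.Fix τ (U : Subgroup S)) {k : ℕ} (hk : τ ^ p ^ k = 1) {A : Subgroup (MulAut S)} (hA : IsPGroup p A) :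
    ∃ A' : Subgroup (MulAut S), IsPGroup p A' ∧ τ ∈ A' ∧ (∀ a ∈ A', _root_.Cfsg.Agent.KFacts.RgdAut.Fix a (U : Subgroup S)) ∧
      ∃ γ : MulAut S, ∀ a ∈ A, γ * a * γ⁻¹ ∈ A' := by
  haveI : Finite (MulAut S) := inferInstance
  set N : Subgroup (MulAut S) := fixG (U : Subgroup S) with hN
  have hidx : ¬ p ∣ N.index := not_dvd_index_fixG U
  -- the cyclic group of `τ`
  have hZ : IsPGroup p (Subgroup.zpowers (⟨τ, hτ⟩ : N)) := by
    rintro ⟨x, hx⟩
    obtain ⟨i, rfl⟩ := Subgroup.mem_zpowers_iff.1 hx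
    refine ⟨k, Subtype.ext (Subtype.ext ?_)⟩
    change (τ ^ i) ^ p ^ k = 1
    rw [← zpow_natCast, ← zpow_mul, mul_comm, zpow_mul, zpow_natCast, hk, one_zpow]
  obtain ⟨P', hP'⟩ := hZ.exists_le_sylow
  set A' : Subgroup (MulAut S) := ((P' : Subgroup N).map N.subtype :) with hA'
  have hA'p : IsPGroup p A' := P'.isPGroup'.map _
  have hA'N : A' ≤ N := Subgroup.map_subtype_le _
  have hidx' : ¬ p ∣ A'.index := by
    rw [← Subgroup.relIndex_mul_index hA'N]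
    intro h
    rcases (Fact.out : p.Prime).dvd_mul.1 h with h1 | h1
    · have h2 : A'.relIndex N = (P' : Subgroup N).index := by
        rw [Subgroup.relIndex, hA', Subgroup.subgroupOf, Subgroup.comap_map_eq_self_of_injective N.subtype_injective]
      rw [h2] at h1
      exact P'.not_dvd_index h1
    · exact hidx h1
  obtain ⟨Q, hQ⟩ := hA.exists_le_sylow
  obtain ⟨R, hR⟩ := hA'p.exists_le_sylow
  have hRA : (R : Subgroup (MulAut S)) = A' := by
    have h1 : A'.relIndex (R : Subgroup (MulAut S)) ∣ A'.index := Subgroup.relIndex_dvd_index_of_le hR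
    have h2 : IsPGroup p (R : Subgroup (MulAut S)) := R.isPGroup'
    obtain ⟨m, hm⟩ := IsPGroup.iff_card.1 h2
    have h3 : A'.relIndex (R : Subgroup (MulAut S)) ∣ p ^ m := by
      rw [← hm]
      exact Subgroup.relIndex_dvd_card _ _
    obtain ⟨j, -, hj⟩ := (Nat.dvd_prime_pow Fact.out).1 h3
    have hj0 : j = 0 := by
      by_contra hj0
      apply hidx'
      refine dvd_trans ?_ h1
      rw [hj]
      exact dvd_pow_self p hj0
    rw [hj0, pow_zero, Subgroup.relIndex_eq_one] at hj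
    exact le_antisymm hj hR
  obtain ⟨γ, hγ⟩ := MulAction.exists_smul_eq (MulAut S) Q R
  refine ⟨A', hA'p, ?_, fun a ha => hA'N ha, γ, fun a ha => ?_⟩
  · exact ⟨⟨τ, hτ⟩, hP' (Subgroup.mem_zpowers _), rfl⟩
  · rw [← hRA, ← hγ]
    have h1 : a ∈ (Q : Subgroup (MulAut S)) := hQ ha
    change γ * a * γ⁻¹ ∈ ((γ • Q : Sylow p (MulAut S)) : Subgroup (MulAut S))
    rw [Sylow.coe_subgroup_smul, Subgroup.mem_pointwise_smul_iff_inv_smul_mem]
    convert h1 using 1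
    rw [← map_inv, MulAut.smul_def, MulAut.conj_apply, inv_inv]
    group

end

/-- **(P3')** -/
theorem wt_of_conj {p : ℕ} {S : Type u} [Group S] {A A' : Subgroup (MulAut S)} {γ : MulAut S}
    (h : ∀ a ∈ A, γ * a * γ⁻¹ ∈ A') {θ : S → ℂ} (hθ : H993.OC.Wt p S A' θ) :
    H993.OC.Wt p S A (fun x => θ (γ x)) := by
  refine H993.OC.Wt.of_equiv (p := p) (S := S) (X := S) γ (A := A) (θ := θ) ?_
  obtain ⟨h1, h2, h3, h4, h5⟩ := hθ
  refine ⟨h1, h2, h3, h4, ?_⟩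
  rintro _ ⟨a, ha, rfl⟩ x
  have := h5 _ (h a ha) x
  rw [← this]
  rfl

end Cfsg.Agent.H763.OC
end

-- part: H985/OC/IndLe
section
/-!
# S4891, own characteristic (R12): monotonicity of multiplicities in induced linear characters (helper985, for helper287)
-/

set_option autoImplicit false

open scoped ComplexConjugate
open Cfsg

namespace Cfsg.Agent.H985.OC

open Cfsg.Agent.OddOrderCharacters.Clifford Cfsg.Agent.Characters Cfsg.Agent.Characters.Core

universe u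

theorem ind_le {G : Type u} [Group G] [Fintype G] {H H' : Subgroup G} (hle : H ≤ H') (ξ : H' →* ℂˣ) {χ : G → ℂ}
    (hχ : IsIrrCharacter G χ) :
    ∃ m : ℕ, classInner (indFun H fun t => (ξ ⟨t, hle t.2⟩ : ℂ)) χ = classInner (indFun H' fun t => (ξ t : ℂ)) χ + m := by
  classical
  let _ : Fintype H := Fintype.ofFinite H
  let _ : Fintype H' := Fintype.ofFinite H'
  have hcf : IsClassFunction G χ := isIrr_isClassFunction hχ
  have hfin : Finite (IrrCharacter H') := finite_irr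
  let _ := Fintype.ofFinite (IrrCharacter H')
  obtain ⟨m, hm⟩ := exists_nat_comb (isCharacter_comp H'.subtype (isIrr_isCharacter hχ))
  let ξ' : IrrCharacter H' := ⟨fun t => (ξ t : ℂ), Characters.Linear.isIrrCharacter_hom ξ⟩
  let f : H →* H' := Subgroup.inclusion hle
  rw [OddOrderCharacters.Clifford.classInner_indFun H _ χ hcf,
    OddOrderCharacters.Clifford.classInner_indFun H' _ χ hcf]
  have hnat : ∀ ψ : IrrCharacter H', ∃ n : ℕ, classInner ((ξ' : H' → ℂ) ∘ f) ((ψ : H' → ℂ) ∘ f) = n := fun ψ =>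
    classInner_isNat (isCharacter_comp f (isIrr_isCharacter ξ'.2)) (isCharacter_comp f (isIrr_isCharacter ψ.2))
  choose n hn using hnat
  have e1 : classInner (fun t : H => (ξ ⟨t, hle t.2⟩ : ℂ)) (fun t : H => χ t) = ∑ ψ : IrrCharacter H', (m ψ : ℂ) * n ψ := by
    have h1 : (fun t : H => χ t) = ∑ ψ : IrrCharacter H', m ψ • ((ψ : H' → ℂ) ∘ f) := by
      funext t
      have h2 := congrFun hm (f t)
      simp only [Function.comp_apply, Finset.sum_apply, Pi.smul_apply] at h2 ⊢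
      exact h2
    rw [h1, classInner_sum_right]
    refine Finset.sum_congr rfl fun ψ _ => ?_
    rw [← Nat.cast_smul_eq_nsmul ℂ, classInner_smul_right, ← hn ψ, Complex.conj_natCast]
    rfl
  have e2 : classInner (fun t : H' => (ξ t : ℂ)) (fun t : H' => χ t) = m ξ' := by
    have h1 : (fun t : H' => χ t) = ∑ ψ : IrrCharacter H', m ψ • (ψ : H' → ℂ) := hm
    rw [h1, classInner_sum_right, Finset.sum_eq_single ξ']
    · rw [← Nat.cast_smul_eq_nsmul ℂ, classInner_smul_right, Complex.conj_natCast,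
        show classInner (fun t : H' => (ξ t : ℂ)) (ξ' : H' → ℂ) = 1 from classInner_irr_self ξ'.2, mul_one]
    · intro ψ _ hψ
      rw [← Nat.cast_smul_eq_nsmul ℂ, classInner_smul_right,
        show classInner (fun t : H' => (ξ t : ℂ)) (ψ : H' → ℂ) = 0 from
          classInner_irr_ne ξ'.2 ψ.2 fun h => hψ (Subtype.ext h.symm), mul_zero]
    · intro h
      exact absurd (Finset.mem_univ _) h
  have e3 : (n ξ' : ℂ) = 1 := by
    rw [← hn ξ']
    exact classInner_irr_self (Characters.Linear.isIrrCharacter_hom (ξ.comp f))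
  refine ⟨∑ ψ ∈ Finset.univ.erase ξ', m ψ * n ψ, ?_⟩
  rw [e1, e2, ← Finset.add_sum_erase _ _ (Finset.mem_univ ξ'), e3, mul_one, Nat.cast_sum]
  congr 1
  exact Finset.sum_congr rfl fun ψ _ => by rw [Nat.cast_mul]

end Cfsg.Agent.H985.OC
end

-- part: H287/OC/D4Row
section
/-!
# S4891 (R12): the row of `PΩ₈⁺(q)` for `p = 3` (helper287)

* `hecke_hyp` : the double cosets of `P_J` on which `lamJ` agrees with itself, up to the triality;
* `ocRow_D4` : `OCRow 3` for the Chevalley group of type `D₄` over a field of characteristic `3`.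
-/

set_option autoImplicit false
set_option linter.unusedSectionVars false

open Cfsg Cfsg.Lie

namespace Cfsg.Agent.H287.OC

open CoxeterSystem Cfsg.Agent.ChevalleyStructure.CoxeterGeom Cfsg.Agent.Tits.Roots Cfsg.Agent.Tits.Core
  Cfsg.Agent.Tits.Exchange Cfsg.Agent.Tits.RootComb
  Cfsg.Agent.Nodes.Reps Cfsg.Agent.Nodes.BNOf Cfsg.Agent.Nodes.StabComb Cfsg.Agent.Nodes.Bruhat
  Cfsg.Agent.Nodes.LeviDec Cfsg.Agent.Nodes.RGDChev Cfsg.Agent.ChevalleyStructure.CoxeterGeomTypes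
  Cfsg.Agent.KFacts.RgdAut Cfsg.Agent.KFacts.RgdDiag Cfsg.Agent.KFacts.RgdChevCoord Cfsg.Agent.KFacts.RgdField
  Cfsg.Agent.H932.OC Cfsg.Agent.H993.OC Cfsg.Agent.H145.BR Cfsg.Agent.H798.Oc.Sign

universe u

/-- representatives of the orbits of `W_J` and the triality -/
def b3 : Fin 3 → ℕ := ![23, 0, 18]

theorem b3_lt : ∀ i, b3 i < 24 := by decide

theorem tab (r : ℕ) (hr : r = 0 ∨ r = 5 ∨ r = 10 ∨ r = 11 ∨ r = 12 ∨ r = 13 ∨ r = 18 ∨ r = 23) :
    ∃ i : Fin 3, ∃ m : Fin 3, ∃ s : Fin 24, vc s = vc (b3 i) ∘ (rot ^ (m : ℕ)).symm ∧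
      (vc r = vc s ∨ ∃ j : Fin 4, (j = 0 ∨ j = 2 ∨ j = 3) ∧ rf j s = r) := by
  rcases hr with rfl | rfl | rfl | rfl | rfl | rfl | rfl | rfl <;> decide +kernel

theorem rot_cartan : ∀ m : Fin 3, ∀ i j : Fin 4, cartanOf chevD4 4 ((rot ^ (m : ℕ)) i) ((rot ^ (m : ℕ)) j) =
    cartanOf chevD4 4 i j := by decide +kernel

theorem rot_th : ∀ m : Fin 3, th ∘ (rot ^ (m : ℕ)).symm = th := by decide +kernel

variable {K : Type u} [Field K] [Finite K]

theorem rep_hat_wr (p : ℕ) [Fact p.Prime] [CharP K p] {τ : MulAut ↥(chevD4.group K)} (m : Fin 3)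
    (D : _root_.Cfsg.Agent.KFacts.RgdDiag.Diag (T4 K) (X4 K) τ (rot ^ (m : ℕ))) (i : Fin 3) :
    rep cs4 hp4.isCartan (hat cs4 (rot ^ (m : ℕ)) (D.matrix (R4 K p)) (wr (b3 i)))⁻¹ th =
      vc (b3 i) ∘ (rot ^ (m : ℕ)).symm := by
  have h1 := rep_hat (cs := cs4) (h := hp4.isCartan) (D.matrix (R4 K p)) (rot_cartan m) (wr (b3 i))⁻¹ th
  rw [rot_th, map_inv, rep_wr (b3_lt i)] at h1
  exact h1

/-- **the double cosets** -/
theorem hecke_hyp (h2 : (2 : K) ≠ 0) {p : ℕ} [Fact p.Prime] [CharP K p] (hp2 : p ≠ 2)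
    {A : Subgroup (MulAut ↥(chevD4.group K))} {τ : MulAut ↥(chevD4.group K)} (hτ : τ ∈ A)
    (hD : _root_.Cfsg.Agent.KFacts.RgdDiag.Diag (T4 K) (X4 K) τ rot) : ∃ g : Fin 3 → ↥(chevD4.group K),
      ∀ x, Ag (PJ cs4 hp4.isCartan (T4 K) (X4 K) J4) (PJ cs4 hp4.isCartan (T4 K) (X4 K) J4) (lamJ K p) (lamJ K p) x →
        ∃ i, ∃ a ∈ A, ∃ u ∈ PJ cs4 hp4.isCartan (T4 K) (X4 K) J4, ∃ v ∈ PJ cs4 hp4.isCartan (T4 K) (X4 K) J4,
          x = u * a (g i) * v := by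
  have hG : GG cs4 hp4.isCartan (T4 K) (X4 K) = ⊤ := Cfsg.Agent.KFacts.RgdRigid.GG_eq_top (G1_eq_top hp4 cs4)
  choose g hg using fun i : Fin 3 => exists_rp cs4 (R4 K p).nsys (wr (b3 i))
  refine ⟨g, fun x hx => ?_⟩
  obtain ⟨a, ha, b, hb, w, k, hk, e⟩ := exists_rp_dc (R4 K p) hG J4 J4 x
  have hky : Ag (PJ cs4 hp4.isCartan (T4 K) (X4 K) J4) (PJ cs4 hp4.isCartan (T4 K) (X4 K) J4) (lamJ K p) (lamJ K p) k := by
    have h1 := hx.mul_mem (inv_mem ha) (inv_mem hb)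
    have e2 : a⁻¹ * x * b⁻¹ = k := by rw [e]; group
    rwa [e2] at h1
  have h3 := (tag_iff4 h2 p (by norm_num) (by norm_num) lamJ_T lamJ_T hk).1
    ((ag_iff (R4 K p) hk (lamJ_p hp2) (lamJ_p hp2)).1 hky)
  rw [vc_th] at h3
  obtain ⟨r, hr, er⟩ := exists_vc (root_th.act w⁻¹)
  rw [er, ← vc_th, par_vc hr (by norm_num), par23 r hr] at h3
  obtain ⟨i, m, s, hs, hsr⟩ := tab r h3
  have Dm := hD.pow (m : ℕ)
  have h4 := Dm.rp' (R := R4 K p) (Dm.matrix (R4 K p)) (hg i)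
  have h5 := rep_hat_wr p m Dm i
  rw [← hs] at h5
  have h6 : ∃ u ∈ WJ cs4 J4, rep cs4 hp4.isCartan w⁻¹ th =
      rep cs4 hp4.isCartan u (rep cs4 hp4.isCartan (hat cs4 (rot ^ (m : ℕ)) (Dm.matrix (R4 K p)) (wr (b3 i)))⁻¹ th) := by
    rw [h5, er]
    rcases hsr with h | ⟨j, hj, h⟩
    · exact ⟨1, one_mem _, by rw [map_one, Module.End.one_apply, h]⟩
    · exact ⟨cs4.simple j, simple_mem_WJ cs4 hj, by rw [rep_vc j s.2, h]⟩
  obtain ⟨u, hu, e3⟩ := h6
  obtain ⟨a', ha', b', hb', e4⟩ := dc_of_root p hk h4 hu e3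
  refine ⟨i, τ ^ (m : ℕ), pow_mem hτ _, a * a', mul_mem ha ha', b' * b, mul_mem hb' hb, ?_⟩
  rw [e, e4]
  group

/-! ### invariance -/

theorem psi_inv [Fintype ↥(chevD4.group K)] {p : ℕ} [Fact p.Prime] [CharP K p] {α : MulAut ↥(chevD4.group K)}
    (hJ : _root_.Cfsg.Agent.KFacts.RgdAut.Fix α (PJ cs4 hp4.isCartan (T4 K) (X4 K) J4)) (hX : _root_.Cfsg.Agent.KFacts.RgdAut.Fix α (X4 K th)) (x : ↥(chevD4.group K)) :
    indFun (PJ cs4 hp4.isCartan (T4 K) (X4 K) J4) (fun t => (lamJ K p t : ℂ)) (α x) =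
      indFun (PJ cs4 hp4.isCartan (T4 K) (X4 K) J4) (fun t => (lamJ K p t : ℂ)) x :=
  H76.OC.indFun_aut (map_of_fix hJ) (fun y hy hy' => by rw [lamJ_aut hX hy hy']) x

theorem pi1_inv [Fintype ↥(chevD4.group K)] {α : MulAut ↥(chevD4.group K)}
    (hQ : _root_.Cfsg.Agent.KFacts.RgdAut.Fix α (PJ cs4 hp4.isCartan (T4 K) (X4 K) {1})) (hB : _root_.Cfsg.Agent.KFacts.RgdAut.Fix α (RGD.B cs4 hp4.isCartan (T4 K) (X4 K)))
    (x : ↥(chevD4.group K)) :
    indFun (PJ cs4 hp4.isCartan (T4 K) (X4 K) {1}) (fun t => (lam1 K t : ℂ)) (α x) =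
      indFun (PJ cs4 hp4.isCartan (T4 K) (X4 K) {1}) (fun t => (lam1 K t : ℂ)) x :=
  H76.OC.indFun_aut (map_of_fix hQ) (fun y hy hy' => by rw [lam1_aut hQ hB hy hy']) x

theorem piB_inv [Fintype ↥(chevD4.group K)] {p : ℕ} [Fact p.Prime] [CharP K p] {α : MulAut ↥(chevD4.group K)}
    (hQ : _root_.Cfsg.Agent.KFacts.RgdAut.Fix α (PJ cs4 hp4.isCartan (T4 K) (X4 K) {1})) (hB : _root_.Cfsg.Agent.KFacts.RgdAut.Fix α (RGD.B cs4 hp4.isCartan (T4 K) (X4 K)))
    (x : ↥(chevD4.group K)) :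
    indFun (PJ cs4 hp4.isCartan (T4 K) (X4 K) ∅) (fun t => (lamB K p t : ℂ)) (α x) =
      indFun (PJ cs4 hp4.isCartan (T4 K) (X4 K) ∅) (fun t => (lamB K p t : ℂ)) x :=
  H76.OC.indFun_aut (map_of_fix (by rw [PJ_empty (R4 K p)]; exact hB)) (fun y hy hy' => by rw [lamB_aut hQ hB hy hy']) x

/-! ### the principal character, the degree, the values -/

theorem psi_one [Fintype ↥(chevD4.group K)] (h2 : (2 : K) ≠ 0) {p : ℕ} [Fact p.Prime] [CharP K p] :
    classInner (indFun (PJ cs4 hp4.isCartan (T4 K) (X4 K) J4) fun t => (lamJ K p t : ℂ)) 1 = 0 := by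
  obtain ⟨ω, hω⟩ := exists_eta K h2
  have ht := hc_mem (K := K) hp4 (1 : Fin 4) ω.ne_zero
  have hP : hc hp4 1 (ω : K) ∈ PJ cs4 hp4.isCartan (T4 K) (X4 K) J4 := B_le_PJ (RGD.T_le_B ht)
  refine H798.Oc.Ind.inner_one ⟨⟨_, hP⟩, fun h => ?_⟩
  rw [lamJ_T _ ht hP, et_hc hp4 cs4 (root_vc (by norm_num)) 1 ω.ne_zero, et_unit, hω] at h
  have h3 : pairing (cartanOf chevD4 4) (1 : Fin 4) (vc 23) = 1 := by decide +kernel
  rw [h3, zpow_one] at h
  have h4 : sC (-1) = sC 1 := by rw [h, map_one]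
  exact absurd (sC_inj h4) (by decide)

theorem psi_index (p : ℕ) [Fact p.Prime] [CharP K p] : ¬ p ∣ (PJ cs4 hp4.isCartan (T4 K) (X4 K) J4).index := by
  have hG : GG cs4 hp4.isCartan (T4 K) (X4 K) = ⊤ := Cfsg.Agent.KFacts.RgdRigid.GG_eq_top (G1_eq_top hp4 cs4)
  obtain ⟨S, hS⟩ := KFacts.RgdAutFacts.exists_sylow (R4 K p) hG
  have h2 : (S : Subgroup ↥(chevD4.group K)) ≤ PJ cs4 hp4.isCartan (T4 K) (X4 K) J4 := by
    rw [hS]
    exact RGD.U_le_B.trans B_le_PJ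
  exact fun h => S.not_dvd_index (h.trans (Subgroup.index_dvd_of_le h2))

theorem two_ne (p : ℕ) [hp : Fact p.Prime] [CharP K p] (hp2 : p ≠ 2) : (2 : K) ≠ 0 := by
  intro h
  have h1 : ((2 : ℕ) : K) = 0 := by exact_mod_cast h
  rw [CharP.cast_eq_zero_iff K p] at h1
  exact hp2 ((Nat.prime_dvd_prime_iff_eq hp.out Nat.prime_two).1 h1)

/-- **the row of type `D₄` in characteristic three** -/
theorem ocRow_D4 (K : Type u) [Field K] [Finite K] [CharP K 3] : OCRow 3 ↥(chevD4.group K) := by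
  classical
  have h3 : Fact (Nat.Prime 3) := ⟨Nat.prime_three⟩
  have := Fintype.ofFinite ↥(chevD4.group K)
  intro A hA
  have hp2 : (3 : ℕ) ≠ 2 := by norm_num
  have h2 := two_ne (K := K) 3 hp2
  have hG : GG cs4 hp4.isCartan (T4 K) (X4 K) = ⊤ := Cfsg.Agent.KFacts.RgdRigid.GG_eq_top (G1_eq_top hp4 cs4)
  obtain ⟨S, hS⟩ := KFacts.RgdAutFacts.exists_sylow (R4 K 3) hG
  obtain ⟨τ, hτ3, hτU, hD⟩ := H87.OC.exists_triality (K := K) (p := 3)
  obtain ⟨A', hA', hτA, hfix, γ, hγ⟩ := H763.OC.exists_sylow_aut S (τ := τ) (by rw [hS]; exact hτU) (k := 1)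
    (by rw [pow_one]; exact hτ3) hA
  have hf : ∀ a ∈ A', _root_.Cfsg.Agent.KFacts.RgdAut.Fix a (RGD.B cs4 hp4.isCartan (T4 K) (X4 K)) ∧ _root_.Cfsg.Agent.KFacts.RgdAut.Fix a (PJ cs4 hp4.isCartan (T4 K) (X4 K) {1}) ∧
      _root_.Cfsg.Agent.KFacts.RgdAut.Fix a (PJ cs4 hp4.isCartan (T4 K) (X4 K) J4) ∧ _root_.Cfsg.Agent.KFacts.RgdAut.Fix a (X4 K th) := by
    intro a ha
    obtain ⟨k, hk⟩ := hA' ⟨a, ha⟩
    have h4 := hfix a ha
    rw [hS] at h4
    exact H87.OC.fix_three K (p := 3) h4 (k := k) (congrArg Subtype.val hk)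
  obtain ⟨g, hg⟩ := hecke_hyp h2 hp2 hτA hD
  have key : ∃ θ, Wt 3 ↥(chevD4.group K) A' θ := by
    refine H763.OC.wt_of_five hp2 hA'
      (Ψ := indFun (PJ cs4 hp4.isCartan (T4 K) (X4 K) J4) fun t => (lamJ K 3 t : ℂ))
      (π := indFun (PJ cs4 hp4.isCartan (T4 K) (X4 K) ∅) fun t => (lamB K 3 t : ℂ))
      (π' := indFun (PJ cs4 hp4.isCartan (T4 K) (X4 K) {1}) fun t => (lam1 K t : ℂ))
      (H798.Oc.Ind.ind_isCharacter _ _) (inner_JJ h2 hp2) (psi_one h2) (H798.Oc.Ind.ind_one _ _) (psi_index 3)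
      (pRat_of_int (H798.Oc.Ind.ind_int _ ((sg (X4 K th)).comp (Subgroup.inclusion (PJ_le_norm K 3)))))
      (fun a ha => psi_inv (hf a ha).2.2.1 (hf a ha).2.2.2) (H798.Oc.Ind.ind_isCharacter _ _)
      (H798.Oc.Ind.ind_isCharacter _ _)
      (pRat_of_int (H798.Oc.Ind.ind_int _
        ((_root_.Cfsg.Agent.H798.Oc.Sign.sq (PJ cs4 hp4.isCartan (T4 K) (X4 K) {1}) (RGD.B cs4 hp4.isCartan (T4 K) (X4 K))).comp
          (Subgroup.inclusion (PJ_mono (R4 K 3) (Set.empty_subset {1}))))))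
      (pRat_of_int (H798.Oc.Ind.ind_int _
        (_root_.Cfsg.Agent.H798.Oc.Sign.sq (PJ cs4 hp4.isCartan (T4 K) (X4 K) {1}) (RGD.B cs4 hp4.isCartan (T4 K) (X4 K)))))
      (fun a ha => piB_inv (hf a ha).2.1 (hf a ha).1) (fun a ha => pi1_inv (hf a ha).2.1 (hf a ha).1)
      (fun χ hχ => H985.OC.ind_le (PJ_mono (R4 K 3) (Set.empty_subset {1})) (lam1 K) hχ) ?_ ?_
    · rw [inner_JB h2 hp2, inner_J1 h2 hp2]
      norm_num
    · intro χ hinj hirr hinv hne ψ hψ hn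
      exact H898.OC.hecke' _ (lamJ K 3) A'
        (fun a ha x => ⟨((hf a ha).2.2.1 x).2 x.2, lamJ_aut (hf a ha).2.2.2 x.2 _⟩) g hg χ hinj hirr hinv hne hψ hn
  obtain ⟨θ, hθ⟩ := key
  exact ⟨_, H763.OC.wt_of_conj hγ hθ⟩

/-- **the row of `PΩ₈⁺(3^f)`** -/
theorem o8 {p : ℕ} [Fact p.Prime] (h3 : p = 3) (F : Type) [Field F] [Fintype F] [CharP F p] :
    OCRow p (POmega F (quadFormPlus 4 F)) := by
  subst h3
  obtain ⟨e⟩ := Cfsg.Agent.S1082.result (F := F)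
  exact (ocRow_D4 F).of_equiv e.symm

end Cfsg.Agent.H287.OC
end

private theorem dce_22871f7142bd : _root_.True := by
  try have : _root_.True := by simp only [_root_.Cfsg.Agent.H763.OC.gal.congr_simp]
  exact _root_.True.intro
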